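import Cfsg.Agent.Small.Order175560.Cases
import Cfsg.Agent.Frobenius.UniqueSubgroup
import Cfsg.Agent.S0201

/-!
# The centraliser of order 120 is `2 × A₅`
-/

set_option autoImplicit false

namespace Cfsg.Lib.Small.Order175560

open scoped Pointwise

universe u

theorem alt_five_two_elements : ∀ a : alternatingGroup (Fin 5), a ^ 8 = 1 → a ^ 2 = 1 := by
  decide +kernel

theorem alt_five_one_class : ∀ a b : alternatingGroup (Fin 5), a ^ 2 = 1 → a ≠ 1 →
    b = ⟨Equiv.swap 0 1 * Equiv.swap 2 3, Equiv.Perm.mem_alternatingGroup.2 (by decide)⟩ → ∃ g, g * a * g⁻¹ = b := by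
  intro a b ha ha1 hb
  subst hb
  revert a
  decide +kernel

theorem alt_five_conj {a b : alternatingGroup (Fin 5)} (ha : a ^ 2 = 1) (ha1 : a ≠ 1) (hb : b ^ 2 = 1)
    (hb1 : b ≠ 1) : ∃ g, g * a * g⁻¹ = b := by
  obtain ⟨g, hg⟩ := alt_five_one_class a _ ha ha1 rfl
  obtain ⟨h, hh⟩ := alt_five_one_class b _ hb hb1 rfl
  refine ⟨h⁻¹ * g, ?_⟩
  calc h⁻¹ * g * a * (h⁻¹ * g)⁻¹ = h⁻¹ * (g * a * g⁻¹) * h := by group
    _ = h⁻¹ * (h * b * h⁻¹) * h := by rw [hg, hh]
    _ = b := by group

variable {G : Type u} [Group G] [Finite G] [IsSimpleGroup G]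
variable (hnc : ¬ ∀ a b : G, a * b = b * a) (hG : Nat.card G = 175560)
include hnc hG

/-- The centraliser has the structure of Janko's involution centraliser. -/
theorem exists_equiv {u : G} (hu : orderOf u = 2)
    (h120 : Nat.card ↥(Subgroup.centralizer ({u} : Set G)) = 120) :
    Nonempty (↥(Subgroup.centralizer ({u} : Set G)) ≃*
      Multiplicative (ZMod 2) × alternatingGroup (Fin 5)) := by
  classical
  have : Fact (Nat.Prime 2) := ⟨Nat.prime_two⟩
  have : Fact (Nat.Prime 5) := ⟨by norm_num⟩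
  set C := Subgroup.centralizer ({u} : Set G) with hCdef
  set s : ↥C := ⟨u, Subgroup.mem_centralizer_singleton_iff.2 rfl⟩ with hsdef
  have hs : orderOf s = 2 := by rw [hsdef, Subgroup.orderOf_mk, hu]
  have hscomm : ∀ c : ↥C, c * s = s * c := fun c =>
    Subtype.ext (Subgroup.mem_centralizer_singleton_iff.1 c.2)
  have hss : s * s = 1 := by rw [← sq, ← hs]; exact pow_orderOf_eq_one s
  set Z := Subgroup.zpowers s with hZdef
  have hZcard : Nat.card ↥Z = 2 := by rw [hZdef, Nat.card_zpowers, hs]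
  have hZmem : ∀ z ∈ Z, z = 1 ∨ z = s := by
    intro z hz
    obtain ⟨i, rfl⟩ := Subgroup.mem_zpowers_iff.1 hz
    rcases Int.even_or_odd i with ⟨k, rfl⟩ | ⟨k, rfl⟩
    · left; rw [zpow_add, ← (Commute.refl s).mul_zpow, hss, one_zpow]
    · right
      rw [zpow_add_one, zpow_mul, zpow_ofNat, sq, hss, one_zpow, one_mul]
  have hZn : Z.Normal := ⟨fun z hz g => by
    rcases hZmem z hz with rfl | rfl
    · simp
    · rw [hscomm g, mul_inv_cancel_right]; exact Subgroup.mem_zpowers s⟩
  have hq60 : Nat.card (↥C ⧸ Z) = 60 := by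
    have h := Subgroup.card_eq_card_quotient_mul_card_subgroup Z
    rw [h120, hZcard] at h
    omega
  -- six Sylow five subgroups
  obtain ⟨Q⟩ : Nonempty (Sylow 5 ↥C) := inferInstance
  have hn5 : Nat.card (Sylow 5 ↥C) ≠ 1 := by
    intro h1
    have htab := localKill_table
    simp only [Bool.and_eq_true] at htab
    exact false_of_unique hnc hG (q := 5) (Or.inl rfl) (card_normalizer hnc hG) C (by rw [h120]; norm_num) h1
      (by rw [h120]; exact htab.1.1.1.2)
  have hQ : Nat.card ↥(Q : Subgroup ↥C) = 5 :=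
    (card_sylow_of_factor Q (a := 1) (m := 24) (by rw [h120]; norm_num) (by norm_num)).trans (pow_one _)
  obtain ⟨q₀, hq₀⟩ := exists_prime_orderOf_dvd_card' (G := ↥(Q : Subgroup ↥C)) 5 (dvd_of_eq hQ.symm)
  set q : ↥C := q₀.1 with hqdef
  have hq : orderOf q = 5 := by rw [hqdef, Subgroup.orderOf_coe, hq₀]
  have hqQ : Subgroup.zpowers q = (Q : Subgroup ↥C) :=
    Subgroup.eq_of_le_of_card_ge (Subgroup.zpowers_le.2 q₀.2) (by rw [Nat.card_zpowers, hq, hQ])
  have hq5 : q ^ 5 = 1 := hq ▸ pow_orderOf_eq_one q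
  set qb : ↥C ⧸ Z := (q : ↥C ⧸ Z) with hqbdef
  have hqb5 : qb ^ 5 = 1 := by rw [hqbdef, ← QuotientGroup.mk_pow, hq5, QuotientGroup.mk_one]
  have hqb : orderOf qb = 5 := by
    refine orderOf_eq_prime hqb5 fun h => ?_
    rw [hqbdef, QuotientGroup.eq_one_iff] at h
    have := Subgroup.card_dvd_of_le (Subgroup.zpowers_le.2 h)
    rw [Nat.card_zpowers, hq, hZcard] at this
    norm_num at this
  have hQb : Nat.card ↥(Subgroup.zpowers qb) = 5 ^ (Nat.card (↥C ⧸ Z)).factorization 5 := by
    obtain ⟨S⟩ : Nonempty (Sylow 5 (↥C ⧸ Z)) := inferInstance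
    rw [← Sylow.card_eq_multiplicity S, card_sylow_of_factor S (a := 1) (m := 12) (by rw [hq60]; norm_num)
      (by norm_num), Nat.card_zpowers, hqb, pow_one]
  set Qb := Sylow.ofCard (Subgroup.zpowers qb) hQb with hQbdef
  have hQbc : (Qb : Subgroup (↥C ⧸ Z)) = Subgroup.zpowers qb := Sylow.coe_ofCard _ _
  have hnotnormal : ¬ (Subgroup.zpowers qb).Normal := by
    intro hn
    refine hn5 ?_
    have hQn : (Q : Subgroup ↥C).Normal := ⟨fun w hw g => by
      rw [← hqQ] at hw ⊢
      obtain ⟨i, rfl⟩ := Subgroup.mem_zpowers_iff.1 hw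
      have h1 : ((g * q ^ i * g⁻¹ : ↥C) : ↥C ⧸ Z) ∈ Subgroup.zpowers qb := by
        rw [QuotientGroup.mk_mul, QuotientGroup.mk_mul, QuotientGroup.mk_inv, QuotientGroup.mk_zpow]
        exact hn.conj_mem _ (zpow_mem (Subgroup.mem_zpowers qb) i) _
      obtain ⟨j, hj⟩ := Subgroup.mem_zpowers_iff.1 h1
      rw [hqbdef, ← QuotientGroup.mk_zpow, QuotientGroup.eq] at hj
      have h6 : (g * q ^ i * g⁻¹) ^ 6 = g * q ^ i * g⁻¹ := by
        have h5 : (q ^ i) ^ 6 = q ^ i := by
          rw [show (q ^ i) ^ 6 = (q ^ i) ^ 5 * q ^ i from pow_succ _ 5,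
            show (q ^ i) ^ 5 = 1 by
              rw [← zpow_natCast (q ^ i) 5, ← zpow_mul, mul_comm, zpow_mul, zpow_natCast, hq5, one_zpow],
            one_mul]
        rw [conj_pow, h5]
      have hw2 : g * q ^ i * g⁻¹ = q ^ j * ((q ^ j)⁻¹ * (g * q ^ i * g⁻¹)) := (mul_inv_cancel_left _ _).symm
      rw [← h6, hw2]
      rcases hZmem _ hj with e | e <;> rw [e]
      · rw [mul_one]; exact pow_mem (zpow_mem (Subgroup.mem_zpowers q) j) 6
      · rw [(show Commute (q ^ j) s from hscomm _).mul_pow, show s ^ 6 = (s * s) ^ 3 by rw [← sq, ← pow_mul],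
          hss, one_pow, mul_one]
        exact pow_mem (zpow_mem (Subgroup.mem_zpowers q) j) 6⟩
    have := Sylow.unique_of_normal Q hQn
    exact Nat.card_unique
  have hNb : Nat.card ↥(Subgroup.normalizer ((Qb : Subgroup (↥C ⧸ Z)) : Set (↥C ⧸ Z))) = 10 := by
    obtain ⟨h1, h2⟩ := sylow_facts Qb (a := 1) (m := 12) (by rw [hq60]; norm_num) (by norm_num)
    have h3 : Nat.card (Sylow 5 (↥C ⧸ Z)) ≠ 1 := by
      intro h
      have : Subsingleton (Sylow 5 (↥C ⧸ Z)) := (Nat.card_eq_one_iff_unique.1 h).1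
      exact hnotnormal (hQbc ▸ Qb.normal_of_subsingleton)
    have h6 := ((by decide : ∀ n ≤ 12, n ∣ 12 → n % 5 = 1 → n = 1 ∨ n = 6) _
      (Nat.le_of_dvd (by norm_num) h1) h1 h2).resolve_left h3
    have h := card_normalizer_mul Qb
    rw [h6, hq60] at h
    omega
  have hsimple : IsSimpleGroup (↥C ⧸ Z) := by
    refine Cfsg.Lib.Classical.SixtyGroup.simple_of_sixty hq60 fun N hN hc => ?_
    simp only [Finset.mem_insert, Finset.mem_singleton] at hc
    have := hN
    rcases eq_or_ne (Nat.card ↥N) 5 with h5 | h5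
    · refine hnotnormal ?_
      obtain ⟨R, hR⟩ := (IsPGroup.of_card (p := 5) (n := 1) (h5.trans (pow_one 5).symm)).exists_le_sylow
      have hRN : N = (R : Subgroup (↥C ⧸ Z)) := Subgroup.eq_of_le_of_card_ge hR (by
        rw [Sylow.card_eq_multiplicity, ← hQb, Nat.card_zpowers, hqb, h5])
      have hRn : (R : Subgroup (↥C ⧸ Z)).Normal := hRN ▸ hN
      have := Sylow.unique_of_normal R hRn
      rw [← hQbc, Subsingleton.elim Qb R]
      exact hRn
    · have hle4 : Nat.card ↥N ≤ 4 := by omega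
      have hNle : N ≤ Subgroup.centralizer ((Qb : Subgroup (↥C ⧸ Z)) : Set (↥C ⧸ Z)) := by
        intro n hn
        rw [hQbc, Subgroup.mem_centralizer_iff]
        rintro _ ⟨i, rfl⟩
        refine (Commute.zpow_left (?_ : Commute qb n) i).eq
        let φ : (↥C ⧸ Z) →* Equiv.Perm ↥N :=
          (MulAut.toPerm ↥N).comp (MulAut.conjNormal : (↥C ⧸ Z) →* MulAut ↥N)
        have h1 : φ qb = 1 := by
          rw [← orderOf_eq_one_iff]
          have h2 : orderOf (φ qb) ∣ 5 := orderOf_dvd_of_pow_eq_one (by rw [← map_pow, hqb5, map_one])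
          rcases (Nat.dvd_prime Fact.out).1 h2 with h | h
          · exact h
          · exfalso
            have h3 := orderOf_dvd_natCard (φ qb)
            rw [h, Nat.card_perm] at h3
            exact absurd ((Nat.Prime.dvd_factorial Fact.out).1 h3) (by omega)
        have h4 := congrArg Subtype.val (DFunLike.congr_fun h1 ⟨n, hn⟩)
        change ((MulAut.conjNormal qb ⟨n, hn⟩ : ↥N) : ↥C ⧸ Z) = n at h4
        rw [MulAut.conjNormal_apply, mul_inv_eq_iff_eq_mul] at h4
        exact h4
      have hd := Subgroup.card_dvd_of_le (hNle.trans (Subgroup.centralizer_le_normalizer _))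
      rw [hNb] at hd
      have hN2 : Nat.card ↥N = 2 := by
        rcases hc with e | e | e | e
        · exact e
        · rw [e] at hd; norm_num at hd
        · rw [e] at hd; norm_num at hd
        · exact absurd e h5
      have hle : Subgroup.normalizer ((Qb : Subgroup (↥C ⧸ Z)) : Set (↥C ⧸ Z)) ≤
          Subgroup.centralizer ((Qb : Subgroup (↥C ⧸ Z)) : Set (↥C ⧸ Z)) := by
        have hQC : (Qb : Subgroup (↥C ⧸ Z)) ≤
            Subgroup.centralizer ((Qb : Subgroup (↥C ⧸ Z)) : Set (↥C ⧸ Z)) := by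
          rw [hQbc, Subgroup.le_centralizer_iff_isMulCommutative]
          infer_instance
        refine (Subgroup.eq_of_le_of_card_ge (Subgroup.centralizer_le_normalizer _) ?_).ge
        rw [hNb]
        refine Nat.le_of_dvd Nat.card_pos (Nat.Coprime.mul_dvd_of_dvd_of_dvd (by norm_num : Nat.Coprime 5 2) ?_ ?_)
        · have h := Subgroup.card_dvd_of_le hQC
          rw [hQbc, Nat.card_zpowers, hqb] at h
          rwa [hQbc]
        · exact hN2 ▸ Subgroup.card_dvd_of_le hNle
      have h3 := three_dvd_normalizer (q := 5) le_rfl (m := 12) (Or.inl rfl) (by rw [hq60]) Qb hle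
      rw [hNb] at h3
      norm_num at h3
  obtain ⟨e⟩ := Cfsg.Lib.Classical.SixtyGroup.iso_alt_five hsimple hq60
  let π : ↥C →* alternatingGroup (Fin 5) := e.toMonoidHom.comp (QuotientGroup.mk' Z)
  have hπsurj : Function.Surjective π := e.surjective.comp (QuotientGroup.mk'_surjective Z)
  have hπker : ∀ c : ↥C, π c = 1 ↔ c ∈ Z := fun c => by
    show e (c : ↥C ⧸ Z) = 1 ↔ _
    rw [MulEquiv.map_eq_one_iff, QuotientGroup.eq_one_iff]
  have hπs : π s = 1 := (hπker s).2 (Subgroup.mem_zpowers s)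
  -- the Sylow two subgroup is abelian
  obtain ⟨S⟩ : Nonempty (Sylow 2 ↥C) := inferInstance
  have hS : Nat.card ↥(S : Subgroup ↥C) = 8 :=
    card_sylow_of_factor S (a := 3) (m := 15) (by rw [h120]; norm_num) (by norm_num)
  have hsS : s ∈ (S : Subgroup ↥C) := by
    obtain ⟨T, hT⟩ := (IsPGroup.of_card (p := 2) (n := 1) (hZcard.trans (pow_one 2).symm)).exists_le_sylow
    obtain ⟨g, rfl⟩ := MulAction.exists_smul_eq ↥C T S
    rw [Sylow.coe_subgroup_smul]
    exact ⟨s, hT (Subgroup.mem_zpowers s), by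
      show g * s * g⁻¹ = s
      rw [hscomm, mul_inv_cancel_right]⟩
  have hw8 : ∀ w : ↥(S : Subgroup ↥C), w ^ 8 = 1 := fun w => hS ▸ pow_card_eq_one'
  have hπ2 : ∀ w ∈ (S : Subgroup ↥C), π w ^ 2 = 1 := fun w hw =>
    alt_five_two_elements _ (by
      rw [← map_pow, show w ^ 8 = 1 from congrArg Subtype.val (hw8 ⟨w, hw⟩), map_one])
  have hexp : ∀ w ∈ (S : Subgroup ↥C), w ^ 2 = 1 := by
    by_cases hex : ∃ w₀ ∈ (S : Subgroup ↥C), orderOf w₀ = 2 ∧ w₀ ≠ s
    · obtain ⟨w₀, hw₀S, hw₀, hne⟩ := hex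
      have hw₀1 : π w₀ ≠ 1 := fun h => by
        rcases hZmem _ ((hπker w₀).1 h) with e' | e'
        · rw [e', orderOf_one] at hw₀; norm_num at hw₀
        · exact hne e'
      intro w hw
      by_cases hw1 : π w = 1
      · rcases hZmem _ ((hπker w).1 hw1) with e' | e' <;> rw [e', sq] <;> simp [hss]
      · obtain ⟨g, hg⟩ := alt_five_conj (hπ2 _ hw₀S) hw₀1 (hπ2 _ hw) hw1
        obtain ⟨c, rfl⟩ := hπsurj g
        have h1 : (c * w₀ * c⁻¹)⁻¹ * w ∈ Z := (hπker _).1 (by
          rw [map_mul, map_inv, map_mul, map_mul, map_inv, hg, inv_mul_cancel])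
        have hw' : w = c * w₀ * c⁻¹ * ((c * w₀ * c⁻¹)⁻¹ * w) := (mul_inv_cancel_left _ _).symm
        have hc2 : (c * w₀ * c⁻¹) ^ 2 = 1 := by
          rw [conj_pow, show w₀ ^ 2 = 1 from hw₀ ▸ pow_orderOf_eq_one w₀, mul_one, mul_inv_cancel]
        rw [hw']
        rcases hZmem _ h1 with e' | e' <;> rw [e']
        · rwa [mul_one]
        · rw [(show Commute (c * w₀ * c⁻¹) s from hscomm _).mul_pow, hc2, one_mul, sq, hss]
    · exfalso
      push Not at hex
      have huniq : ∀ a b : ↥(S : Subgroup ↥C), orderOf a = 2 → orderOf b = 2 → b ∈ Subgroup.zpowers a := by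
        intro a b ha hb
        have : a = b := Subtype.ext ((hex _ a.2 (by rw [Subgroup.orderOf_coe, ha])).trans
          (hex _ b.2 (by rw [Subgroup.orderOf_coe, hb])).symm)
        exact this ▸ Subgroup.mem_zpowers a
      rcases Cfsg.Lib.UniqueSub.isCyclic_or_quaternion S.2 huniq with hcyc | ⟨-, n, ⟨f⟩⟩
      · obtain ⟨a, ha⟩ := IsCyclic.exists_generator (α := ↥(S : Subgroup ↥C))
        have hord : orderOf a = 8 := by rw [orderOf_eq_card_of_forall_mem_zpowers ha, hS]
        have h2 : (a : ↥C) ^ 2 ∈ Z := (hπker _).1 (by rw [map_pow, hπ2 _ a.2])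
        have h4 : (a : ↥C) ^ 4 = 1 := by
          rw [show (4 : ℕ) = 2 * 2 from rfl, pow_mul]
          rcases hZmem _ h2 with e' | e' <;> rw [e', sq] <;> simp [hss]
        have h := orderOf_dvd_of_pow_eq_one h4
        rw [Subgroup.orderOf_coe, hord] at h
        norm_num at h
      · have hn : n = 1 := by
          have h := Nat.card_congr f.toEquiv
          rw [hS, Nat.card_eq_fintype_card, QuaternionGroup.card] at h
          exact Nat.pow_right_injective le_rfl (show 2 ^ n = 2 ^ 1 by omega)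
        subst hn
        set T := (S : Subgroup ↥C).map C.subtype with hTdef
        have hTc : Nat.card ↥T = 2 ^ (Nat.card G).factorization 2 := by
          obtain ⟨R⟩ : Nonempty (Sylow 2 G) := inferInstance
          rw [hTdef, Subgroup.card_map_of_injective C.subtype_injective, hS, ← Sylow.card_eq_multiplicity R,
            card_sylow_of_factor R (a := 3) (m := 21945) (by rw [hG]; norm_num) (by norm_num)]
          norm_num
        have h := Cfsg.Agent.S0201.result (Sylow.ofCard T hTc) 0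
          ((MulEquiv.subgroupCongr (Sylow.coe_ofCard T hTc)).trans
            ((Subgroup.equivMapOfInjective _ _ C.subtype_injective).symm.trans f))
          (fun N hN hodd => by
            rcases hN.eq_bot_or_eq_top with h | h
            · exact h
            · rw [h, Subgroup.card_top, hG] at hodd
              exact absurd hodd (by decide))
        rw [center_eq_bot_of_not_comm hnc, Subgroup.card_bot] at h
        norm_num at h
  -- transfer
  letI : CommGroup ↥(S : Subgroup ↥C) :=
    { (inferInstance : Group ↥(S : Subgroup ↥C)) with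
      mul_comm := fun a b => by
        have h : ∀ c : ↥(S : Subgroup ↥C), c⁻¹ = c := fun c => inv_eq_of_mul_eq_one_left (Subtype.ext (by
          rw [Subgroup.coe_mul, Subgroup.coe_one, ← sq]; exact hexp _ c.2))
        calc a * b = (a * b)⁻¹ := (h _).symm
          _ = b⁻¹ * a⁻¹ := mul_inv_rev a b
          _ = b * a := by rw [h, h] }
  let V : ↥C →* ↥(S : Subgroup ↥C) := MonoidHom.transfer (MonoidHom.id ↥(S : Subgroup ↥C))
  have hidx15 : (S : Subgroup ↥C).index = 15 := by
    have h := Subgroup.card_mul_index (S : Subgroup ↥C)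
    rw [hS, h120] at h
    omega
  have hVs : V s = ⟨s, hsS⟩ := by
    refine (MonoidHom.transfer_eq_pow _ s fun k g₀ _ => ?_).trans (Subtype.ext ?_)
    · rw [mul_assoc, ← ((show Commute g₀ s from hscomm g₀).pow_right k).eq, inv_mul_cancel_left]
    · show s ^ (S : Subgroup ↥C).index = s
      rw [hidx15, show (15 : ℕ) = 2 * 7 + 1 from rfl, pow_succ, pow_mul, sq, hss, one_pow, one_mul]
  have hs1 : s ≠ 1 := fun e' => by rw [e', orderOf_one] at hs; norm_num at hs
  have hdisj : ∀ c : ↥C, V c = 1 → π c = 1 → c = 1 := by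
    intro c hV hπc
    rcases hZmem c ((hπker c).1 hπc) with rfl | rfl
    · rfl
    · rw [hVs] at hV
      exact absurd (congrArg Subtype.val hV) hs1
  have hA5 : Nat.card (alternatingGroup (Fin 5)) = 60 := by
    rw [nat_card_alternatingGroup, Nat.card_fin]; rfl
  have hinj : Function.Injective (π.comp V.ker.subtype) := by
    rw [injective_iff_map_eq_one]
    exact fun c hc => Subtype.ext (hdisj c c.2 hc)
  have hker60 : Nat.card ↥V.ker = 60 := by
    have hn : (V.ker.map π).Normal := (MonoidHom.normal_ker V).map π hπsurj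
    have : IsSimpleGroup (alternatingGroup (Fin 5)) := alternatingGroup.isSimpleGroup (by simp)
    rcases hn.eq_bot_or_eq_top with h | h
    · exfalso
      have hV1 : Function.Injective V := (injective_iff_map_eq_one V).2 fun c hc =>
        hdisj c hc ((Subgroup.mem_bot).1 (h ▸ Subgroup.mem_map_of_mem π hc))
      have := Nat.card_le_card_of_injective V hV1
      omega
    · refine le_antisymm ?_ ?_
      · have := Nat.card_le_card_of_injective _ hinj
        omega
      · have h1 : Function.Surjective (π.comp V.ker.subtype) := fun a => by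
          obtain ⟨c, hc, rfl⟩ : a ∈ V.ker.map π := h ▸ Subgroup.mem_top a
          exact ⟨⟨c, hc⟩, rfl⟩
        have := Nat.card_le_card_of_surjective _ h1
        omega
  have hrange : Nat.card ↥V.range = 2 := by
    have h1 := Subgroup.card_mul_index V.ker
    rw [Subgroup.index_ker, hker60, h120] at h1
    omega
  let ε : ↥V.range ≃* Multiplicative (ZMod 2) :=
    mulEquivOfPrimeCardEq (p := 2) hrange (by rw [Nat.card_eq_fintype_card, Fintype.card_multiplicative, ZMod.card])
  let Φ : ↥C →* Multiplicative (ZMod 2) × alternatingGroup (Fin 5) :=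
    (ε.toMonoidHom.comp V.rangeRestrict).prod π
  refine ⟨MulEquiv.ofBijective Φ ((Nat.bijective_iff_injective_and_card Φ).2 ⟨?_, ?_⟩)⟩
  · rw [injective_iff_map_eq_one]
    intro c hc
    refine hdisj c ?_ (congrArg Prod.snd hc)
    have h1 : ε (V.rangeRestrict c) = 1 := congrArg Prod.fst hc
    rw [MulEquiv.map_eq_one_iff] at h1
    exact congrArg Subtype.val h1
  · rw [h120, Nat.card_prod, hA5, Nat.card_eq_fintype_card, Fintype.card_multiplicative, ZMod.card]

end Cfsg.Lib.Small.Order175560
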