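import Cfsg.Agent.Small.Toolkit
import Cfsg.Agent.Blocks.DegreeEquation.Check

/-!
# The principal 19-block of a simple group of order 175560
-/

set_option autoImplicit false

namespace Cfsg.Lib.Small.Order175560.Block

open Cfsg.Lib.Chars Cfsg.Lib.Blocks Cfsg.Lib.Blocks.SmallOrder Cfsg.Lib.Blocks.SylowCount
  Cfsg.Lib.Blocks.DegreeEquation
open scoped ComplexConjugate _root_.Classical

universe u

theorem three_two : ((sums (terms 19 4620 175560 2 420 1) 2).all fun s =>
    !(terms 19 4620 175560 2 420 3).contains (1 + s)) = true := by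
  decide +kernel

theorem odd_table : ((terms 19 3080 175560 3 420 1).all fun b =>
    !(terms 19 3080 175560 3 420 2).contains (1 + b) || decide ((1 + b) % 2 = 1)) = true := by
  decide +kernel

/-- The values `-4, …, 4`. -/
def vals : List ℤ := [-4, -3, -2, -1, 0, 1, 2, 3, 4]

/-- All lists of small values. -/
def allV (f : List (ℤ × ℤ) → Bool) : List ℤ → List (ℤ × ℤ) → Bool
  | [], acc => f acc
  | z :: zs, acc => vals.all fun r => decide ((z - r) % 4 ≠ 0) || allV f zs ((z, r) :: acc)

/-- The test for a class of 7315 involutions. -/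
def leaf (a : ℤ) (l : List (ℤ × ℤ)) : Bool :=
  let R := 1 + (l.map Prod.snd).sum
  decide (24 < 1 + (l.map fun q => q.2 * q.2).sum + 3 * (R * R)) ||
    decide (7315 * 7315 * ((fracs l).1 * a - R * R * (fracs l).2) ≠ 19 * 175560 * ((fracs l).2 * a))

theorem twenty_four : allZ (terms 19 9240 175560 1 420 1) (fun zs =>
    !(terms 19 9240 175560 1 420 6).contains (1 + zs.sum) || allV (leaf (1 + zs.sum)) zs []) 5 [] =
      true := by
  decide +kernel

lemma mem_vals {r : ℤ} (h : r * r ≤ 24) : r ∈ vals := by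
  have h1 : r ≤ 4 := by nlinarith
  have h2 : -4 ≤ r := by nlinarith
  interval_cases r <;> simp [vals]

lemma allV_spec {f : List (ℤ × ℤ) → Bool} : ∀ (qs acc : List (ℤ × ℤ)),
    allV f (qs.map Prod.fst) acc = true →
    (∀ q ∈ qs, q.2 * q.2 ≤ 24 ∧ (4 : ℤ) ∣ q.1 - q.2) → f (qs.reverse ++ acc) = true
  | [], acc, h, _ => h
  | (z, R) :: qs, acc, h, hq => by
    obtain ⟨hR, h4⟩ := hq (z, R) List.mem_cons_self
    rw [List.map_cons, allV, List.all_eq_true] at h
    have h1 := h R (mem_vals hR)
    rw [Bool.or_eq_true, decide_eq_true_eq] at h1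
    have h2 := allV_spec qs _ (h1.resolve_left (fun hne => hne (Int.emod_eq_zero_of_dvd h4)))
      fun q hq' => hq q (List.mem_cons_of_mem _ hq')
    rwa [List.reverse_cons, List.append_assoc, List.singleton_append]

variable {G : Type u} [Group G] [Fintype G] [IsSimpleGroup G] [Fact (Nat.Prime 19)]
  {C : Cyc G 19} (hC : Core C) (hG : Nat.card G = 175560) (hidx : idx C = 1540)
include hC hG hidx

/-- The inertial index is two or six. -/
theorem eC_cases :
    (eC C = 2 ∧ Nat.card C.V = 3) ∨ (eC C = 6 ∧ Nat.card C.V = 1) := by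
  have hev : eC C * Nat.card C.V = 6 := by
    have h := card_eq C
    rw [hG, hidx] at h
    omega
  have he2 := hC.two_le_eC
  have hle : eC C ≤ 6 := Nat.le_of_dvd (by norm_num) ⟨_, hev.symm⟩
  rcases (show eC C = 2 ∨ eC C = 3 ∨ eC C = 4 ∨ eC C = 5 ∨ eC C = 6 by omega) with e | e | e | e | e <;>
    rw [e] at hev
  · exact Or.inl ⟨e, by omega⟩
  · exfalso
    obtain ⟨M, hM⟩ := exists_isPModular (Fact.out : Nat.Prime 19)
    obtain ⟨ν, δ, hD⟩ := C.exists_orbitData hM C.oneV
    obtain ⟨a, l, hlen, hsum, ha, hl⟩ := degree_equation hC hM hD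
    rw [hG, hidx, e, show Nat.card C.V = 2 by omega] at ha hl
    have hS : 175560 ≤ 420 * 420 := by norm_num
    have htab := three_two
    rw [List.all_eq_true] at htab
    have hmem := sum_mem_sums l fun z hz => mem_terms hS (hl z hz).1 (hl z hz).2
    rw [show l.length = 2 by omega] at hmem
    have h3 := htab l.sum hmem
    simp only [Bool.not_eq_true', hsum] at h3
    have h4 := List.contains_iff_mem.2 (mem_terms hS ha.1 ha.2)
    push_cast at h4
    rw [h4] at h3
    exact Bool.noConfusion h3
  · omega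
  · omega
  · exact Or.inr ⟨e, by omega⟩

/-- With index two an involution centraliser has order at least ten. -/
theorem ten_le (he : eC C = 2) (hv : Nat.card C.V = 3) {s : G} (hs : s * s = 1) :
    10 ≤ Nat.card ↥(Subgroup.centralizer ({s} : Set G)) := by
  obtain ⟨M, hM⟩ := exists_isPModular (Fact.out : Nat.Prime 19)
  obtain ⟨ν, δ, hD⟩ := C.exists_orbitData hM C.oneV
  obtain ⟨χ, b, hE, hb, ha⟩ := exists_eqTwo hC hM hD (by norm_num) he
  rw [hG, hidx, he, hv] at hb ha
  have hS : 175560 ≤ 420 * 420 := by norm_num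
  have htab := odd_table
  rw [List.all_eq_true] at htab
  have h1 := htab b (mem_terms hS hb.1 hb.2)
  rw [Bool.or_eq_true, Bool.not_eq_true', decide_eq_true_eq,
    List.contains_iff_mem.2 (mem_terms hS ha.1 ha.2)] at h1
  replace h1 := h1.resolve_left (by simp)
  have hoddν : Odd (deg (ν 1 : G → ℂ)) := by
    rw [hE.relation] at h1
    rcases hD.sign with e | e <;> rw [e] at h1 <;> exact Nat.odd_iff.2 (by omega)
  choose r hr h4 hle using fun η : IrrCharacter G => value_involution hC η hs
  have h2 := second_orthogonality s s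
  rw [if_pos (IsConj.refl s), Finset.sum_congr rfl (g := fun η : IrrCharacter G => ((r η * r η : ℤ) : ℂ))
    (fun η _ => by rw [hr η, map_intCast]; push_cast; ring), ← Int.cast_sum] at h2
  have h3 : ∑ η : IrrCharacter G, r η * r η = (Nat.card (Subgroup.centralizer ({s} : Set G)) : ℤ) := by
    exact_mod_cast h2
  have hone : r (oneG G) = 1 := by
    apply Int.cast_injective (α := ℂ)
    rw [← hr, Int.cast_one]
    rfl
  have hnot : oneG G ∉ Finset.univ.image ν := fun h => by
    obtain ⟨u, -, hu⟩ := Finset.mem_image.1 h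
    exact hE.not_one ⟨u, hu⟩
  have himg : (Finset.univ.image ν).card = 9 := by
    have := index_eq (C := C)
    rw [he] at this
    rw [card_image hD]
    omega
  have hge : ∀ η ∈ Finset.univ.image ν, (1 : ℤ) ≤ r η * r η := by
    intro η hη
    obtain ⟨u, -, rfl⟩ := Finset.mem_image.1 hη
    have hne : r (ν u) ≠ 0 := fun h0 => by
      have h5 := h4 (ν u)
      rw [h0, sub_zero, deg_exc hD u] at h5
      obtain ⟨k, hk⟩ := hoddν
      omega
    nlinarith [mul_self_pos.2 hne]
  have h6 : ∑ η ∈ insert (oneG G) (Finset.univ.image ν), r η * r η ≤ ∑ η : IrrCharacter G, r η * r η :=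
    Finset.sum_le_sum_of_subset_of_nonneg (Finset.subset_univ _) fun η _ _ => mul_self_nonneg _
  rw [Finset.sum_insert hnot, hone, h3] at h6
  have h7 : ((Finset.univ.image ν).card : ℤ) ≤ ∑ η ∈ Finset.univ.image ν, r η * r η :=
    le_of_eq_of_le (by rw [Finset.sum_const, nsmul_one]) (Finset.sum_le_sum hge)
  rw [himg] at h7
  push_cast at h7
  omega

/-- With index six some involution inverts `y` and has not a centraliser of order twenty-four. -/
theorem exists_inv (he : eC C = 6) (hv : Nat.card C.V = 1) :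
    ∃ u : G, orderOf u = 2 ∧ u * C.y * u⁻¹ = C.y⁻¹ ∧
      Nat.card ↥(Subgroup.centralizer ({u} : Set G)) ≠ 24 := by
  obtain ⟨M, hM⟩ := exists_isPModular (Fact.out : Nat.Prime 19)
  obtain ⟨ν, δ, hD⟩ := C.exists_orbitData hM C.oneV
  obtain ⟨s, a, l, hlen, hss, hs1, hT, hl⟩ := exists_invPairsAt hC hM hD hv (by rw [he]; norm_num)
  obtain ⟨⟨⟨u, w⟩, hu, hw, huw⟩⟩ : Nonempty {w : G × G // IsConj s w.1 ∧ IsConj s w.2 ∧ w.1 * w.2 = C.y} := by
    rw [← not_isEmpty_iff]
    intro h
    rw [Nat.card_of_isEmpty] at hT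
    omega
  have hord : orderOf s = 2 := orderOf_eq_prime (by rw [sq, hss]) hs1
  have hou : ∀ {x : G}, IsConj s x → orderOf x = 2 := fun {x} hx => by
    obtain ⟨c, rfl⟩ := isConj_iff.1 hx
    rw [← MulAut.conj_apply, MulEquiv.orderOf_eq, hord]
  refine ⟨u, hou hu, ?_, fun h24 => ?_⟩
  · have h1 : u * u = 1 := by rw [← sq, ← hou hu]; exact pow_orderOf_eq_one u
    have h2 : w * w = 1 := by rw [← sq, ← hou hw]; exact pow_orderOf_eq_one w
    change u * w = C.y at huw
    rw [← huw, mul_inv_rev, inv_eq_of_mul_eq_one_left h1, inv_eq_of_mul_eq_one_left h2, ← mul_assoc, h1,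
      one_mul]
  · have hK : Nat.card {x : G // IsConj s x} = 7315 := by
      have hcong : Nat.card {x : G // IsConj s x} = Nat.card {x : G // IsConj u x} :=
        Nat.card_congr (Equiv.subtypeEquivRight fun x => ⟨fun h => hu.symm.trans h, fun h => hu.trans h⟩)
      have h := Subgroup.card_mul_index (Subgroup.centralizer ({u} : Set G))
      rw [h24, hG] at h
      rw [hcong, card_isConj]
      omega
    rw [hK, hG, hidx, he, hv] at hl
    obtain ⟨hsum, ⟨ha, hA⟩, hq, hR, -, hE, hB⟩ := hl
    have hS : 175560 ≤ 420 * 420 := by norm_num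
    have hZ := twenty_four
    rw [show (5 : ℕ) = (l.map Prod.fst).length by rw [List.length_map]; omega] at hZ
    have h1 := allZ_spec (l.map Prod.fst) [] hZ fun z hz => by
      obtain ⟨q, hq', rfl⟩ := List.mem_map.1 hz
      exact mem_terms hS (hq q hq').1.1 (hq q hq').1.2
    have hAm := List.contains_iff_mem.2 (mem_terms hS ha hA)
    push_cast at hAm
    simp only [List.append_nil, List.sum_reverse, hsum, Bool.or_eq_true, Bool.not_eq_true', hAm,
      Bool.true_eq_false, false_or] at h1
    rw [← List.map_reverse] at h1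
    push_cast at hB hE
    have hB' : 1 + (l.map fun q => q.2 * q.2).sum +
        3 * ((1 + (l.map Prod.snd).sum) * (1 + (l.map Prod.snd).sum)) ≤ 24 := by omega
    have hsmall : ∀ q ∈ l, q.2 * q.2 ≤ 24 := fun q hq' => by
      have h5 : q.2 * q.2 ≤ (l.map fun q => q.2 * q.2).sum :=
        List.single_le_sum (fun x hx => by
          obtain ⟨q', -, rfl⟩ := List.mem_map.1 hx
          exact mul_self_nonneg _) _ (List.mem_map.2 ⟨q, hq', rfl⟩)
      have h6 := mul_self_nonneg (1 + (l.map Prod.snd).sum)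
      omega
    have h2 := allV_spec l.reverse [] h1 fun q hq' =>
      ⟨hsmall q (List.mem_reverse.1 hq'), (hq q (List.mem_reverse.1 hq')).2.1⟩
    simp only [List.reverse_reverse, List.append_nil, leaf, Bool.or_eq_true, decide_eq_true_eq] at h2
    rcases h2 with h2 | h2
    · omega
    · exact h2 (by linarith)

end Cfsg.Lib.Small.Order175560.Block
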