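import Cfsg.Agent.Small.Order175560.Local
import Cfsg.Agent.Small.Order175560.Char

/-!
# An involution with a centraliser of order 120
-/

set_option autoImplicit false

namespace Cfsg.Lib.Small.Order175560

open Cfsg.Lib.Blocks Cfsg.Lib.Blocks.SmallOrder Cfsg.Lib.Blocks.SylowCount Cfsg.Lib.Blocks.DegreeEquation
open scoped Pointwise

universe u

theorem nineteen_options : ((List.range 9241).all fun n =>
    !(decide (9240 % n = 0 ∧ n % 19 = 1)) || [1, 20, 77, 210, 1540].contains n) = true := by
  decide +kernel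

theorem nineteen_table : ([20, 77, 210].all fun n => checkN 19 9240 420 n) = true := by
  decide +kernel

theorem three_table : ((List.range 3081).all fun n =>
    !(decide (3080 % n = 0 ∧ n % 3 = 1)) || decide (n = 1) || [28, 55, 220, 385, 1540].contains n ||
      checkN 3 58520 420 n) = true := by
  decide +kernel

theorem count_table : ((List.range 331).all fun a =>
    !(decide (a % 19 = 1) && [330, 168, 42, 24, 6].any fun b => decide (b % a = 0)) || decide (a = 1)) = true := by
  decide +kernel

theorem six_table : ((List.range 83).all fun f =>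
    !(decide (f % 4 = 0 ∧ 175560 % (6 * f) = 0)) || [24, 120, 168, 264, 456].contains (6 * f)) = true := by
  decide +kernel

theorem two_table : ((List.range 29).all fun f =>
    !(decide (f % 4 = 0 ∧ 175560 % (2 * f) = 0)) || [8, 24, 40, 56].contains (2 * f)) = true := by
  decide +kernel

variable {G : Type u} [Group G] [Finite G] [IsSimpleGroup G]
variable (hnc : ¬ ∀ a b : G, a * b = b * a) (hG : Nat.card G = 175560)
include hnc hG

/-- There are 1540 Sylow `19`-subgroups. -/
theorem card_sylow_nineteen : Nat.card (Sylow 19 G) = 1540 := by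
  have hcyc : ¬ IsCyclic G := fun hc => by
    let _ : CommGroup G := IsCyclic.commGroup
    exact hnc mul_comm
  obtain ⟨P⟩ : Nonempty (Sylow 19 G) := inferInstance
  obtain ⟨h1, h2⟩ := sylow_facts P (a := 1) (m := 9240) (by rw [hG]; norm_num) (by norm_num)
  have h3 := card_sylow_ne_one (p := 19) hnc (by rw [hG]; norm_num)
  have htab := nineteen_options
  rw [List.all_eq_true] at htab
  have h4 := htab _ (List.mem_range.2 (Nat.lt_succ_of_le (Nat.le_of_dvd (by norm_num) h1)))
  rw [decide_eq_true (And.intro (Nat.mod_eq_zero_of_dvd h1) h2), Bool.not_true, Bool.false_or,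
    List.contains_iff_mem] at h4
  have h5 := checkN_card_sylow hcyc 19 9240 420 (by rw [hG]) (by norm_num) (by norm_num)
  have hk := nineteen_table
  rw [List.all_eq_true] at hk
  simp only [List.mem_cons, List.not_mem_nil, or_false] at h4
  rcases h4 with h | h | h | h | h
  · exact absurd h h3
  · rw [h, hk 20 (by simp)] at h5; exact Bool.noConfusion h5
  · rw [h, hk 77 (by simp)] at h5; exact Bool.noConfusion h5
  · rw [h, hk 210 (by simp)] at h5; exact Bool.noConfusion h5
  · exact h

theorem card_normalizer (P : Sylow 19 G) :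
    Nat.card ↥(Subgroup.normalizer ((P : Subgroup G) : Set G)) = 114 := by
  have h := card_normalizer_mul P
  rw [card_sylow_nineteen hnc hG, hG] at h
  omega

/-- The two possible shapes of a Sylow normaliser. -/
theorem exists_shape (P : Sylow 19 G) : ∃ y : G, orderOf y = 19 ∧ Subgroup.zpowers y = (P : Subgroup G) ∧
    ((Nat.card ↥(Subgroup.centralizer ((P : Subgroup G) : Set G)) = 57 ∧
        ∀ s : G, orderOf s = 2 → 10 ≤ Nat.card ↥(Subgroup.centralizer ({s} : Set G))) ∨
      (Nat.card ↥(Subgroup.centralizer ((P : Subgroup G) : Set G)) = 19 ∧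
        ∃ u : G, orderOf u = 2 ∧ u ∈ Subgroup.normalizer ((P : Subgroup G) : Set G) ∧
          Nat.card ↥(Subgroup.centralizer ({u} : Set G)) ≠ 24)) := by
  classical
  have := Fintype.ofFinite G
  have hcyc : ¬ IsCyclic G := fun hc => by
    let _ : CommGroup G := IsCyclic.commGroup
    exact hnc mul_comm
  obtain ⟨C, hC⟩ := exists_cyc (p := 19) (by rw [hG]; norm_num) (by rw [hG]; norm_num) P
  have hcore : Core C := ⟨BrauerTuan.perfect_of_simple hcyc, ⟨P, hC⟩, fun N hN hne => by
    rw [hN.eq_bot_or_eq_top.resolve_left hne]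
    exact Subgroup.mem_top _⟩
  have hidx : idx C = 1540 := by
    rw [idx, hC, ← card_sylow_nineteen hnc hG]
    exact P.card_eq_index_normalizer.symm
  refine ⟨C.y, C.order, hC, ?_⟩
  set Ct := Subgroup.centralizer ((P : Subgroup G) : Set G) with hCt
  have hVC : ∀ h : C.H, h ∈ C.V → (h : G) ∈ Ct := by
    intro h hh
    rw [hCt, ← hC, Subgroup.mem_centralizer_iff]
    rintro _ ⟨i, rfl⟩
    have h1 := C.conj_yP h 1
    rw [MonoidHom.mem_ker.1 hh, Units.val_one, mul_one, C.yP_one, mul_inv_eq_iff_eq_mul] at h1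
    exact (Commute.zpow_left (show Commute C.y (h : G) from h1.symm) i).eq
  have hyC : Subgroup.zpowers C.y ≤ Ct := by
    rw [hCt, ← hC, Subgroup.le_centralizer_iff_isMulCommutative]
    infer_instance
  have hdec : ∀ g ∈ Ct, ∃ i : ℕ, ∃ h : C.H, h ∈ C.V ∧ C.y ^ i * (h : G) = g := by
    intro g hg
    obtain ⟨i, h, hh, e⟩ := C.decomp g (by rw [hC]; exact Subgroup.centralizer_le_normalizer _ hg)
    refine ⟨i, ⟨h, hh⟩, MonoidHom.mem_ker.2 (Units.ext (C.yP_injective ?_)), e.symm⟩
    have h1 := C.conj_yP ⟨h, hh⟩ 1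
    rw [mul_one] at h1
    rw [← h1, Units.val_one, C.yP_one, mul_inv_eq_iff_eq_mul]
    have h2 := Subgroup.mem_centralizer_iff.1 hg C.y (hC ▸ Subgroup.mem_zpowers C.y)
    rw [e, ← mul_assoc, ← pow_succ', mul_assoc, pow_succ, mul_assoc] at h2
    exact (mul_left_cancel h2).symm
  have hcard : Nat.card ↥Ct = 19 * Nat.card C.V := by
    refine le_antisymm ?_ (Nat.le_of_dvd Nat.card_pos ?_)
    · have h0 := Nat.card_le_card_of_surjective (fun w : ↥(Subgroup.zpowers C.y) × C.V =>
        (⟨(w.1 : G) * (w.2.1 : G), mul_mem (hyC w.1.2) (hVC _ w.2.2)⟩ : ↥Ct)) fun g => by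
        obtain ⟨i, h, hh, e⟩ := hdec g g.2
        exact ⟨(⟨C.y ^ i, Subgroup.npow_mem_zpowers _ i⟩, ⟨h, hh⟩), Subtype.ext e⟩
      rwa [Nat.card_prod, Nat.card_zpowers, C.order] at h0
    · refine Nat.Coprime.mul_dvd_of_dvd_of_dvd ((Nat.Prime.coprime_iff_not_dvd Fact.out).2 fun h =>
        C.not_dvd (h.trans (Subgroup.card_subgroup_dvd_card C.V))) ?_ ?_
      · have := Subgroup.card_dvd_of_le hyC
        rwa [Nat.card_zpowers, C.order] at this
      · rw [← Subgroup.card_map_of_injective C.H.subtype_injective]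
        refine Subgroup.card_dvd_of_le ?_
        rintro _ ⟨h, hh, rfl⟩
        exact hVC h hh
  rcases Block.eC_cases hcore hG hidx with ⟨he, hv⟩ | ⟨he, hv⟩
  · refine Or.inl ⟨by rw [hcard, hv], fun s hs => Block.ten_le hcore hG hidx he hv ?_⟩
    rw [← sq, ← hs]
    exact pow_orderOf_eq_one s
  · obtain ⟨u, hu, hinv, h24⟩ := Block.exists_inv hcore hG hidx he hv
    refine Or.inr ⟨by rw [hcard, hv], u, hu, ?_, h24⟩
    have huu : u⁻¹ = u := inv_eq_of_mul_eq_one_left (by rw [← sq, ← hu]; exact pow_orderOf_eq_one u)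
    rw [← hC]
    refine C.norm_of_mem (i := 1) (j := -1) one_ne_zero ?_
    rw [C.yP_one, C.yP_neg, C.yP_one, huu]
    nth_rw 2 [← huu]
    exact hinv

/-- No involution centralises a Sylow `19`-subgroup. -/
theorem odd_centralizer (P : Sylow 19 G) :
    Odd (Nat.card ↥(Subgroup.centralizer ((P : Subgroup G) : Set G))) := by
  obtain ⟨y, -, -, ⟨h, -⟩ | ⟨h, -⟩⟩ := exists_shape hnc hG P <;> rw [h] <;> decide

/-- Nineteen does not divide the order of an involution centraliser. -/
theorem not_nineteen_dvd {s : G} (hs : orderOf s = 2) :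
    ¬ 19 ∣ Nat.card ↥(Subgroup.centralizer ({s} : Set G)) := by
  intro hd
  obtain ⟨y, hy⟩ := exists_prime_orderOf_dvd_card' 19 hd
  have hy' : orderOf (y : G) = 19 := by rw [Subgroup.orderOf_coe, hy]
  obtain ⟨P⟩ : Nonempty (Sylow 19 G) := inferInstance
  have hyp : Nat.card ↥(Subgroup.zpowers (y : G)) = 19 ^ (Nat.card G).factorization 19 := by
    rw [← Sylow.card_eq_multiplicity P, card_nineteen hG P, Nat.card_zpowers, hy']
  have hmem : s ∈ Subgroup.centralizer ((Sylow.ofCard _ hyp : Subgroup G) : Set G) := by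
    rw [Sylow.coe_ofCard, Subgroup.mem_centralizer_iff]
    rintro _ ⟨i, rfl⟩
    exact (Commute.zpow_left (show Commute (y : G) s from Subgroup.mem_centralizer_singleton_iff.1 y.2) i).eq
  have h := Subgroup.card_dvd_of_le (Subgroup.zpowers_le.2 hmem)
  rw [Nat.card_zpowers, hs] at h
  exact Nat.not_even_iff_odd.2 (odd_centralizer hnc hG _) (even_iff_two_dvd.2 h)

/-- The index two case does not occur. -/
theorem false_of_fifty_seven (P : Sylow 19 G) {y : G} (hy : orderOf y = 19)
    (hyP : Subgroup.zpowers y = (P : Subgroup G))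
    (h57 : Nat.card ↥(Subgroup.centralizer ((P : Subgroup G) : Set G)) = 57)
    (h10 : ∀ s : G, orderOf s = 2 → 10 ≤ Nat.card ↥(Subgroup.centralizer ({s} : Set G))) : False := by
  classical
  have hcyc : ¬ IsCyclic G := fun hc => by
    let _ : CommGroup G := IsCyclic.commGroup
    exact hnc mul_comm
  have : Fact (Nat.Prime 3) := ⟨by norm_num⟩
  have hP := card_nineteen hG P
  set N := Subgroup.normalizer ((P : Subgroup G) : Set G) with hN
  set Ct := Subgroup.centralizer ((P : Subgroup G) : Set G) with hCt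
  have hN114 : Nat.card ↥N = 114 := card_normalizer hnc hG P
  have hCN : Ct ≤ N := Subgroup.centralizer_le_normalizer _
  have hyCt : y ∈ Ct := by
    have h : (P : Subgroup G) ≤ Ct := by
      rw [hCt, ← hyP, Subgroup.le_centralizer_iff_isMulCommutative]
      infer_instance
    exact h (hyP ▸ Subgroup.mem_zpowers y)
  obtain ⟨x₀, hx₀⟩ := exists_prime_orderOf_dvd_card' (G := ↥Ct) 3 (by rw [h57]; norm_num)
  set x : G := x₀.1 with hxdef
  have hx : orderOf x = 3 := by rw [hxdef, Subgroup.orderOf_coe, hx₀]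
  have hxCt : x ∈ Ct := x₀.2
  have hxy : Commute x y :=
    (Subgroup.mem_centralizer_iff.1 hxCt y (hyP ▸ Subgroup.mem_zpowers y)).symm
  have hx3 : x ^ 3 = 1 := hx ▸ pow_orderOf_eq_one x
  have hy19 : y ^ 19 = 1 := hy ▸ pow_orderOf_eq_one y
  -- the Sylow three subgroup
  have hfac : (Nat.card G).factorization 3 = 1 := by
    obtain ⟨S⟩ : Nonempty (Sylow 3 G) := inferInstance
    have h1 := card_sylow_of_factor S (a := 1) (m := 58520) (by rw [hG]; norm_num) (by norm_num)
    rw [Sylow.card_eq_multiplicity] at h1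
    exact Nat.pow_right_injective (by norm_num) h1
  set X := Sylow.ofCard (Subgroup.zpowers x) (by rw [Nat.card_zpowers, hx, hfac, pow_one]) with hXdef
  have hXc : (X : Subgroup G) = Subgroup.zpowers x := Sylow.coe_ofCard _ _
  set Nx := Subgroup.normalizer ((X : Subgroup G) : Set G) with hNx
  have hyNx : y ∈ Nx := by
    refine Subgroup.centralizer_le_normalizer _ ?_
    rw [hXc, Subgroup.mem_centralizer_iff]
    rintro _ ⟨i, rfl⟩
    exact (Commute.zpow_left hxy i).eq
  have hPNx : (P : Subgroup G) ≤ Nx := hyP ▸ Subgroup.zpowers_le.2 hyNx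
  have hmul := card_normalizer_mul X
  rw [hG, ← hNx] at hmul
  obtain ⟨hn3, hn3'⟩ := sylow_facts X (a := 1) (m := 58520) (by rw [hG]; norm_num) (by norm_num)
  have h19 : 19 ∣ Nat.card ↥Nx := by
    have := Subgroup.card_dvd_of_le hPNx
    rwa [hP] at this
  have hn3080 : Nat.card (Sylow 3 G) ∣ 3080 := by
    obtain ⟨k, hk⟩ := h19
    obtain ⟨j, hj⟩ := hn3
    rw [hk] at hmul
    have h3 : Nat.card (Sylow 3 G) ∣ 3 * 3080 := ⟨k, by linarith⟩
    exact ((Nat.Prime.coprime_iff_not_dvd (by norm_num)).2 (fun h => by omega)).symm.dvd_of_dvd_mul_left h3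
  have hNxeq : Nx = N := by
    have hsmall : Nat.card ↥Nx / 19 ∈ [330, 168, 42, 24, 6] ∧ 114 ≤ Nat.card ↥Nx := by
      have htab := three_table
      rw [List.all_eq_true] at htab
      have h4 := htab _ (List.mem_range.2 (Nat.lt_succ_of_le (Nat.le_of_dvd (by norm_num) hn3080)))
      rw [decide_eq_true (And.intro (Nat.mod_eq_zero_of_dvd hn3080) hn3'), Bool.not_true, Bool.false_or,
        decide_eq_false (card_sylow_ne_one (p := 3) hnc (by rw [hG]; norm_num)), Bool.false_or,
        checkN_card_sylow hcyc 3 58520 420 (by rw [hG]) (by norm_num) (by norm_num), Bool.or_false,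
        List.contains_iff_mem] at h4
      simp only [List.mem_cons, List.not_mem_nil, or_false] at h4 ⊢
      rcases h4 with h | h | h | h | h <;> rw [h] at hmul <;> omega
    obtain ⟨a, ha, hcardNx, hone⟩ := exists_card_eq_mul_inf_normalizer P hPNx
    have hk : 19 ∣ Nat.card ↥(Nx ⊓ N : Subgroup G) := by
      have := Subgroup.card_dvd_of_le (le_inf hPNx Subgroup.le_normalizer : (P : Subgroup G) ≤ Nx ⊓ N)
      rwa [hP] at this
    obtain ⟨k, hk⟩ := hk
    rw [← hN, hk] at hcardNx
    have hdiv : Nat.card ↥Nx / 19 = a * k := by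
      rw [hcardNx, ← mul_assoc, mul_comm a 19, mul_assoc, Nat.mul_div_cancel_left _ (by norm_num)]
    have ha1 : a = 1 := by
      have htab := count_table
      rw [List.all_eq_true] at htab
      have hle : a < 331 := by
        have hb : a * k ≤ 330 := by
          have h := hsmall.1
          rw [hdiv] at h
          simp only [List.mem_cons, List.not_mem_nil, or_false] at h
          omega
        have hk0 : 0 < k := Nat.pos_of_ne_zero fun e => by
          rw [e, mul_zero, mul_zero] at hcardNx
          omega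
        have := Nat.le_mul_of_pos_right a hk0
        omega
      have h4 := htab a (List.mem_range.2 hle)
      rw [Bool.or_eq_true, Bool.not_eq_true', decide_eq_true_eq] at h4
      refine h4.resolve_left ?_
      rw [Bool.not_eq_false, Bool.and_eq_true, decide_eq_true_eq, List.any_eq_true]
      exact ⟨ha, _, hsmall.1, decide_eq_true (Nat.mod_eq_zero_of_dvd ⟨k, hdiv⟩)⟩
    exact Subgroup.eq_of_le_of_card_ge (hone ha1) (by rw [hN114]; exact hsmall.2)
  -- every involution of the normaliser inverts
  set z := x * y with hzdef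
  have hz : orderOf z = 57 := by
    rw [hzdef, hxy.orderOf_mul_eq_mul_orderOf_of_coprime (by rw [hx, hy]; norm_num), hx, hy]
  have hzcent : Ct = Subgroup.zpowers z := (Subgroup.eq_of_le_of_card_ge
    (Subgroup.zpowers_le.2 (mul_mem hxCt hyCt)) (by rw [Nat.card_zpowers, hz, h57])).symm
  have hinvert : ∀ s : G, orderOf s = 2 → s ∈ N → s * x * s⁻¹ = x⁻¹ ∧ s * y * s⁻¹ = y⁻¹ := by
    intro s hs hsN
    have hss : s * s = 1 := by rw [← sq, ← hs]; exact pow_orderOf_eq_one s
    have hsCt : s ∉ Ct := fun h => by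
      have h1 := Subgroup.card_dvd_of_le (Subgroup.zpowers_le.2 h)
      rw [Nat.card_zpowers, hs, h57] at h1
      norm_num at h1
    refine ⟨conj_eq_inv (by norm_num) hx hss ?_ fun hc => ?_, conj_eq_inv Fact.out hy hss ?_ fun hc => hsCt ?_⟩
    · rw [← hXc]
      refine (Subgroup.mem_normalizer_iff.1 ?_ x).1 (hXc ▸ Subgroup.mem_zpowers x)
      change s ∈ Nx
      rw [hNxeq]
      exact hsN
    · refine not_normalizer_le_centralizer hnc (p := 3) (by rw [hG]; norm_num) X ?_
      rw [← hNx, hNxeq]
      have hsx : s ∈ Subgroup.centralizer ((X : Subgroup G) : Set G) := by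
        rw [hXc, Subgroup.mem_centralizer_iff]
        rintro _ ⟨i, rfl⟩
        exact (Commute.zpow_left (show Commute x s from hc.symm) i).eq
      have hCx : Ct ≤ Subgroup.centralizer ((X : Subgroup G) : Set G) := by
        rw [hzcent, Subgroup.zpowers_le, hXc, Subgroup.mem_centralizer_iff]
        rintro _ ⟨i, rfl⟩
        exact (Commute.zpow_left ((Commute.refl x).mul_right hxy) i).eq
      have hle : Subgroup.centralizer ((X : Subgroup G) : Set G) ≤ N := hNxeq ▸ Subgroup.centralizer_le_normalizer _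
      refine (Subgroup.eq_of_le_of_card_ge hle ?_).ge
      rw [hN114]
      refine Nat.le_of_dvd Nat.card_pos (Nat.Coprime.mul_dvd_of_dvd_of_dvd (by norm_num : Nat.Coprime 57 2) ?_ ?_)
      · exact h57 ▸ Subgroup.card_dvd_of_le hCx
      · have := Subgroup.card_dvd_of_le (Subgroup.zpowers_le.2 hsx)
        rwa [Nat.card_zpowers, hs] at this
    · rw [hyP]
      exact (Subgroup.mem_normalizer_iff.1 hsN y).1 (hyP ▸ Subgroup.mem_zpowers y)
    · rw [hCt, ← hyP, Subgroup.mem_centralizer_iff]
      rintro _ ⟨i, rfl⟩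
      exact (Commute.zpow_left (show Commute y s from hc.symm) i).eq
  -- the element of order three fixes only `P`
  have hxfix : ∀ R : Sylow 19 G, x • R = R → R = P := by
    intro R hR
    obtain ⟨g, rfl⟩ := MulAction.exists_smul_eq G P R
    set w := g⁻¹ * x * g with hw
    have hwN : w ∈ N := by
      refine Sylow.smul_eq_iff_mem_normalizer.1 ?_
      rw [hw, mul_smul, mul_smul, hR, inv_smul_smul]
    have how : orderOf w = 3 := by
      have : w = MulAut.conj g⁻¹ x := by rw [hw, MulAut.conj_apply, inv_inv]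
      rw [this, MulEquiv.orderOf_eq, hx]
    obtain ⟨Q, hQ⟩ := (IsPGroup.of_card (n := 1) (show Nat.card ↥(Subgroup.zpowers w) = 3 ^ 1 by
      rw [Nat.card_zpowers, how, pow_one])).exists_le_sylow
    have hQX : X = Q := sylow_fixed_eq (card_sylow_of_factor Q (a := 1) (m := 58520)
        (by rw [hG]; norm_num) (by norm_num) |>.trans (pow_one _)) (hQ (Subgroup.mem_zpowers w))
      (fun e => by rw [e, orderOf_one] at how; norm_num at how)
      (Sylow.smul_eq_iff_mem_normalizer.2 (show w ∈ Nx by rw [hNxeq]; exact hwN))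
    have hmap : (Subgroup.zpowers x).map (MulAut.conj g⁻¹).toMonoidHom = Subgroup.zpowers x := by
      rw [MonoidHom.map_zpowers, show (MulAut.conj g⁻¹).toMonoidHom x = w by
        rw [MulEquiv.coe_toMonoidHom, MulAut.conj_apply, inv_inv, hw]]
      refine Subgroup.eq_of_le_of_card_ge ?_ (by rw [Nat.card_zpowers, Nat.card_zpowers, hx, how])
      rw [Subgroup.zpowers_le, ← hXc, hQX]
      exact hQ (Subgroup.mem_zpowers w)
    have hgN : g⁻¹ ∈ Nx := by
      rw [hNx, hXc, Subgroup.mem_normalizer_iff]
      intro b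
      conv_rhs => rw [← hmap]
      exact (Subgroup.mem_map_iff_mem (f := (MulAut.conj g⁻¹).toMonoidHom) (MulAut.conj g⁻¹).injective).symm
    rw [hNxeq] at hgN
    exact Sylow.smul_eq_iff_mem_normalizer.2 ((inv_mem_iff).1 hgN)
  obtain ⟨s, hs₀⟩ := exists_prime_orderOf_dvd_card' (G := ↥N) 2 (by rw [hN114]; norm_num)
  have hs : orderOf (s : G) = 2 := by rw [Subgroup.orderOf_coe, hs₀]
  obtain ⟨hsx, hsy⟩ := hinvert _ hs s.2
  have F : Frame P z (s : G) := by
    refine ⟨hzcent, by rw [hz]; decide, fun R hR i hi => ?_, hs, s.2, ?_⟩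
    · have hst : z ^ i ∈ MulAction.stabilizer G R := hi
      have e19 : z ^ (19 * i) = x ^ (19 * i) := by
        rw [hzdef, hxy.mul_zpow, zpow_mul y, zpow_ofNat, hy19, one_zpow, mul_one]
      have e3 : z ^ (3 * i) = y ^ (3 * i) := by
        rw [hzdef, hxy.mul_zpow, zpow_mul x, zpow_ofNat, hx3, one_zpow, one_mul]
      have h19' : x ^ (19 * i) = 1 := by
        by_contra hne
        refine hR (hxfix R ?_)
        have hmem : x ^ (19 * i) ∈ MulAction.stabilizer G R := by
          rw [← e19, mul_comm, zpow_mul]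
          exact zpow_mem hst _
        have h1 : Subgroup.zpowers (x ^ (19 * i)) = Subgroup.zpowers x := by
          refine Subgroup.eq_of_le_of_card_ge (Subgroup.zpowers_le.2 (zpow_mem (Subgroup.mem_zpowers x) _)) ?_
          rw [Nat.card_zpowers, Nat.card_zpowers, hx]
          have h := orderOf_dvd_natCard (⟨_, zpow_mem (Subgroup.mem_zpowers x) (19 * i)⟩ : ↥(Subgroup.zpowers x))
          rw [Subgroup.orderOf_mk, Nat.card_zpowers, hx] at h
          rcases (Nat.dvd_prime (by norm_num)).1 h with h | h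
          · exact absurd (orderOf_eq_one_iff.1 h) hne
          · rw [h]
        exact (h1 ▸ Subgroup.zpowers_le.2 hmem : Subgroup.zpowers x ≤ _) (Subgroup.mem_zpowers x)
      have h3' : y ^ (3 * i) = 1 := by
        by_contra hne
        refine hR (sylow_fixed_eq hP (hyP ▸ zpow_mem (Subgroup.mem_zpowers y) _) hne ?_)
        have : y ^ (3 * i) ∈ MulAction.stabilizer G R := by
          rw [← e3, mul_comm, zpow_mul]
          exact zpow_mem hst _
        exact this
      calc z ^ i = z ^ (19 * i + 3 * i * (-6)) := by congr 1; ring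
        _ = 1 := by rw [zpow_add, zpow_mul z (3 * i), e19, e3, h19', h3', one_zpow, one_mul]
    · rw [hzdef]
      calc (s : G) * (x * y) * (s : G)⁻¹ = ((s : G) * x * (s : G)⁻¹) * ((s : G) * y * (s : G)⁻¹) := by group
        _ = x⁻¹ * y⁻¹ := by rw [hsx, hsy]
        _ = (x * y)⁻¹ := by rw [mul_inv_rev, (Commute.inv_inv hxy).eq]
  have hsP : (s : G) • P = P := Sylow.smul_eq_iff_mem_normalizer.2 s.2
  have hfix := F.fixed_le
  have hcard := F.card_centralizer hP
  have h4 := four_dvd_moved hnc (Sylow 19 G) (show (s : G) * s = 1 from F.ss)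
  rw [card_sylow_nineteen hnc hG] at hfix h4
  rw [hz] at hfix hcard
  rw [← hN, hN114] at hcard
  set f := Nat.card {R : Sylow 19 G // (s : G) • R = R}
  have hf1 : 0 < f := Nat.card_pos_iff.2 ⟨⟨⟨P, hsP⟩⟩, inferInstance⟩
  have hc := h10 _ hs
  have hcdvd := Subgroup.card_subgroup_dvd_card (Subgroup.centralizer ({(s : G)} : Set G))
  rw [hG, show Nat.card ↥(Subgroup.centralizer ({(s : G)} : Set G)) = 2 * f by omega] at hcdvd
  have htab := two_table
  rw [List.all_eq_true] at htab
  have h5 := htab f (List.mem_range.2 (by omega))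
  rw [decide_eq_true (And.intro (show f % 4 = 0 by omega) (Nat.mod_eq_zero_of_dvd hcdvd)), Bool.not_true,
    Bool.false_or, List.contains_iff_mem] at h5
  simp only [List.mem_cons, List.not_mem_nil, or_false] at h5
  rcases h5 with h | h | h | h
  · omega
  · -- an element of order three centralising the involution
    obtain ⟨w, hw⟩ := exists_prime_orderOf_dvd_card' (G := ↥(Subgroup.centralizer ({(s : G)} : Set G))) 3
      (⟨8, by omega⟩)
    have hw' : orderOf (w : G) = 3 := by rw [Subgroup.orderOf_coe, hw]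
    obtain ⟨g, hg⟩ := MulAction.exists_smul_eq G X (Sylow.ofCard (Subgroup.zpowers (w : G))
      (by rw [Nat.card_zpowers, hw', hfac, pow_one]))
    have hxg : g * x * g⁻¹ ∈ Subgroup.zpowers (w : G) := by
      have h1 := congrArg (fun S : Sylow 3 G => (S : Subgroup G)) hg
      simp only [Sylow.coe_subgroup_smul, hXc, Sylow.coe_ofCard] at h1
      rw [← h1]
      exact ⟨x, Subgroup.mem_zpowers x, rfl⟩
    obtain ⟨i, hi⟩ := Subgroup.mem_zpowers_iff.1 hxg
    have hcomm : (s : G) * (g * x * g⁻¹) = (g * x * g⁻¹) * s := by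
      rw [← hi]
      exact (Commute.zpow_right (show Commute (s : G) w from
        (Subgroup.mem_centralizer_singleton_iff.1 w.2).symm) i).eq
    set t := g⁻¹ * s * g with ht
    have hto : orderOf t = 2 := by
      have : t = MulAut.conj g⁻¹ s := by rw [ht, MulAut.conj_apply, inv_inv]
      rw [this, MulEquiv.orderOf_eq, hs]
    have htx : t * x = x * t := by
      calc t * x = g⁻¹ * ((s : G) * (g * x * g⁻¹)) * g := by rw [ht]; group
        _ = g⁻¹ * ((g * x * g⁻¹) * s) * g := by rw [hcomm]
        _ = x * t := by rw [ht]; group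
    have htN : t ∈ N := by
      rw [← hNxeq, hNx, hXc]
      refine Subgroup.centralizer_le_normalizer _ ?_
      rw [Subgroup.mem_centralizer_iff]
      rintro _ ⟨i, rfl⟩
      exact (Commute.zpow_left (show Commute x t from htx.symm) i).eq
    have h2 := (hinvert t hto htN).1
    rw [htx, mul_inv_cancel_right] at h2
    have h3 : x ^ 2 = 1 := by
      rw [sq]
      nth_rw 1 [h2]
      exact inv_mul_cancel x
    have := orderOf_dvd_of_pow_eq_one h3
    rw [hx] at this
    norm_num at this
  · exact card_centralizer_ne hnc hG (card_normalizer hnc hG) hs 40 (by simp) (by omega)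
  · exact card_centralizer_ne hnc hG (card_normalizer hnc hG) hs 56 (by simp) (by omega)

/-- Some involution has a centraliser of order 120. -/
theorem exists_card_centralizer :
    ∃ u : G, orderOf u = 2 ∧ Nat.card ↥(Subgroup.centralizer ({u} : Set G)) = 120 := by
  classical
  obtain ⟨P⟩ : Nonempty (Sylow 19 G) := inferInstance
  have hP := card_nineteen hG P
  obtain ⟨y, hy, hyP, ⟨h57, h10⟩ | ⟨h19, u, hu, huN, h24⟩⟩ := exists_shape hnc hG P
  · exact (false_of_fifty_seven hnc hG P hy hyP h57 h10).elim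
  refine ⟨u, hu, ?_⟩
  have hyCt : Subgroup.zpowers y ≤ Subgroup.centralizer ((P : Subgroup G) : Set G) := by
    rw [← hyP, Subgroup.le_centralizer_iff_isMulCommutative]
    infer_instance
  have hcent : Subgroup.centralizer ((P : Subgroup G) : Set G) = Subgroup.zpowers y :=
    (Subgroup.eq_of_le_of_card_ge hyCt (by rw [Nat.card_zpowers, hy, h19])).symm
  have F : Frame P y u := by
    refine ⟨hcent, by rw [hy]; decide, fun R hR i hi => ?_, hu, huN, ?_⟩
    · by_contra hne
      exact hR (sylow_fixed_eq hP (hyP ▸ zpow_mem (Subgroup.mem_zpowers y) _) hne hi)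
    · refine conj_eq_inv Fact.out hy (by rw [← sq, ← hu]; exact pow_orderOf_eq_one u) ?_ fun hc => ?_
      · rw [hyP]
        exact (Subgroup.mem_normalizer_iff.1 huN y).1 (hyP ▸ Subgroup.mem_zpowers y)
      · have hmem : u ∈ Subgroup.centralizer ((P : Subgroup G) : Set G) := by
          rw [← hyP, Subgroup.mem_centralizer_iff]
          rintro _ ⟨i, rfl⟩
          exact (Commute.zpow_left (show Commute y u from hc.symm) i).eq
        have h := Subgroup.card_dvd_of_le (Subgroup.zpowers_le.2 hmem)
        rw [Nat.card_zpowers, hu, h19] at h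
        norm_num at h
  have hsP : u • P = P := Sylow.smul_eq_iff_mem_normalizer.2 huN
  have hfix := F.fixed_le
  have hcard := F.card_centralizer hP
  have h4 := four_dvd_moved hnc (Sylow 19 G) (show u * u = 1 from F.ss)
  rw [card_sylow_nineteen hnc hG] at hfix h4
  rw [hy] at hfix hcard
  rw [card_normalizer hnc hG] at hcard
  set f := Nat.card {R : Sylow 19 G // u • R = R}
  have hf1 : 0 < f := Nat.card_pos_iff.2 ⟨⟨⟨P, hsP⟩⟩, inferInstance⟩
  have hcdvd := Subgroup.card_subgroup_dvd_card (Subgroup.centralizer ({u} : Set G))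
  have hc6 : Nat.card ↥(Subgroup.centralizer ({u} : Set G)) = 6 * f := by omega
  rw [hG, hc6] at hcdvd
  have htab := six_table
  rw [List.all_eq_true] at htab
  have h5 := htab f (List.mem_range.2 (by omega))
  rw [decide_eq_true (And.intro (show f % 4 = 0 by omega) (Nat.mod_eq_zero_of_dvd hcdvd)), Bool.not_true,
    Bool.false_or, List.contains_iff_mem, ← hc6] at h5
  simp only [List.mem_cons, List.not_mem_nil, or_false] at h5
  rcases h5 with h | h | h | h | h
  · exact absurd h h24
  · exact h
  · exact absurd h (card_centralizer_ne hnc hG (card_normalizer hnc hG) hu 168 (by simp))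
  · exact absurd h (card_centralizer_ne hnc hG (card_normalizer hnc hG) hu 264 (by simp))
  · exact absurd (h ▸ (by norm_num : 19 ∣ 456)) (not_nineteen_dvd hnc hG hu)

end Cfsg.Lib.Small.Order175560
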