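import Cfsg.Agent.Small.Toolkit

/-!
# An involution inverting a semiregular cyclic subgroup
-/

set_option autoImplicit false

namespace Cfsg.Lib.Small.Order175560

open MulAction
open scoped Pointwise

variable {G : Type*} [Group G] [Finite G]

/-- An element of order two normalising a subgroup of prime order without centralising it inverts it. -/
theorem conj_eq_inv {r : ℕ} (hr : r.Prime) {u t : G} (hu : orderOf u = r) (htt : t * t = 1)
    (hmem : t * u * t⁻¹ ∈ Subgroup.zpowers u) (hne : t * u ≠ u * t) : t * u * t⁻¹ = u⁻¹ := by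
  obtain ⟨i, hi⟩ := Subgroup.mem_zpowers_iff.1 hmem
  have h2 : u ^ (i * i) = u := by
    rw [zpow_mul, hi, conj_zpow, hi, inv_eq_of_mul_eq_one_right htt]
    calc t * (t * u * t) * t = (t * t) * u * (t * t) := by group
      _ = u := by rw [htt, one_mul, mul_one]
  have h3 : (r : ℤ) ∣ i * i - 1 := by
    rw [← hu, orderOf_dvd_iff_zpow_eq_one, zpow_sub, h2, zpow_one, mul_inv_cancel]
  rw [show i * i - 1 = (i - 1) * (i + 1) by ring] at h3
  rcases (Nat.prime_iff_prime_int.1 hr).dvd_or_dvd h3 with h4 | h4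
  · exfalso
    apply hne
    rw [← hu, orderOf_dvd_iff_zpow_eq_one, zpow_sub, zpow_one, mul_inv_eq_one, hi] at h4
    exact mul_inv_eq_iff_eq_mul.1 h4
  · rw [← hu, orderOf_dvd_iff_zpow_eq_one, zpow_add, zpow_one, hi] at h4
    exact eq_inv_of_mul_eq_one_left h4

/-- A Sylow subgroup of order `p`, its cyclic centraliser acting semiregularly on the other ones, and an
involution inverting the centraliser. -/
structure Frame {p : ℕ} (P : Sylow p G) (z s : G) : Prop where
  cent : Subgroup.centralizer ((P : Subgroup G) : Set G) = Subgroup.zpowers z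
  odd : Odd (orderOf z)
  free : ∀ R : Sylow p G, R ≠ P → ∀ i : ℤ, z ^ i • R = R → z ^ i = 1
  invol : orderOf s = 2
  norm : s ∈ Subgroup.normalizer ((P : Subgroup G) : Set G)
  inv : s * z * s⁻¹ = z⁻¹

namespace Frame

variable {p : ℕ} [Fact p.Prime] {P : Sylow p G} {z s : G} (F : Frame P z s)
include F

theorem ss : s * s = 1 := by
  rw [← sq, ← F.invol]; exact pow_orderOf_eq_one s

theorem conj_zpow' (i : ℤ) : s * z ^ i = z ^ (-i) * s := by
  rw [zpow_neg, ← inv_zpow, ← F.inv, conj_zpow, inv_mul_cancel_right]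

/-- The involution centralises nothing of the cyclic group. -/
theorem eq_one {i : ℤ} (h : s * z ^ i = z ^ i * s) : z ^ i = 1 := by
  rw [F.conj_zpow', mul_left_inj] at h
  have h1 : z ^ (i + i) = 1 := by
    calc z ^ (i + i) = z ^ i * z ^ i := zpow_add z i i
      _ = z ^ i * z ^ (-i) := by rw [h]
      _ = 1 := by rw [zpow_neg, mul_inv_cancel]
  rw [← orderOf_dvd_iff_zpow_eq_one] at h1 ⊢
  obtain ⟨k, hk⟩ := F.odd
  rw [hk] at h1 ⊢
  have h3 : ((2 * k + 1 : ℕ) : ℤ) ∣ 2 * i := by rwa [two_mul i]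
  refine (IsCoprime.dvd_of_dvd_mul_left ?_ h3)
  exact ⟨1, -(k : ℤ), by push_cast; ring⟩

theorem zpow_mem_normalizer (i : ℤ) : z ^ i ∈ Subgroup.normalizer ((P : Subgroup G) : Set G) :=
  Subgroup.centralizer_le_normalizer _ (F.cent ▸ zpow_mem (Subgroup.mem_zpowers z) i)

/-- An involution of the normaliser is a conjugate under the cyclic group. -/
theorem exists_conj (hP : Nat.card ↥(P : Subgroup G) = p) {u : G} (hu : orderOf u = 2)
    (huN : u ∈ Subgroup.normalizer ((P : Subgroup G) : Set G)) :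
    ∃ i : ℤ, z ^ i * s * (z ^ i)⁻¹ = u := by
  obtain ⟨y, hy⟩ := exists_prime_orderOf_dvd_card' (G := ↥(P : Subgroup G)) p (dvd_of_eq hP.symm)
  have hy' : orderOf (y : G) = p := by rw [Subgroup.orderOf_coe, hy]
  have hyP : Subgroup.zpowers (y : G) = (P : Subgroup G) :=
    Subgroup.eq_of_le_of_card_ge (Subgroup.zpowers_le.2 y.2) (by rw [Nat.card_zpowers, hy', hP])
  have hnotC : ∀ {w : G}, orderOf w = 2 → w ∉ Subgroup.centralizer ((P : Subgroup G) : Set G) := by
    intro w hw hmem
    rw [F.cent] at hmem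
    have h1 := Subgroup.card_dvd_of_le (Subgroup.zpowers_le.2 hmem)
    rw [Nat.card_zpowers, Nat.card_zpowers, hw] at h1
    exact Nat.not_even_iff_odd.2 F.odd (even_iff_two_dvd.2 h1)
  have hinvy : ∀ {w : G}, orderOf w = 2 → w ∈ Subgroup.normalizer ((P : Subgroup G) : Set G) →
      w * y * w⁻¹ = (y : G)⁻¹ := by
    intro w hw hwN
    refine conj_eq_inv Fact.out hy' (by rw [← sq, ← hw]; exact pow_orderOf_eq_one w)
      (by rw [hyP]; exact (Subgroup.mem_normalizer_iff.1 hwN _).1 y.2) fun hc => hnotC hw ?_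
    rw [← hyP, Subgroup.mem_centralizer_iff]
    rintro _ ⟨i, rfl⟩
    exact ((Commute.zpow_right (show Commute w y from hc) i).symm).eq
  have h1 := hinvy hu huN
  have h2 := hinvy F.invol F.norm
  have h3 : u * s ∈ Subgroup.centralizer ((P : Subgroup G) : Set G) := by
    rw [← hyP, Subgroup.mem_centralizer_iff]
    rintro _ ⟨i, rfl⟩
    refine ((Commute.zpow_right (show Commute (u * s) y from ?_) i).symm).eq
    show u * s * y = y * (u * s)
    have : u * s * y * (u * s)⁻¹ = y := by
      calc u * s * y * (u * s)⁻¹ = u * (s * y * s⁻¹) * u⁻¹ := by group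
        _ = (u * y * u⁻¹)⁻¹ := by rw [h2]; group
        _ = y := by rw [h1, inv_inv]
    exact mul_inv_eq_iff_eq_mul.1 this
  rw [F.cent] at h3
  obtain ⟨i, hi⟩ := Subgroup.mem_zpowers_iff.1 h3
  obtain ⟨k, hk⟩ := F.odd
  refine ⟨i * (k + 1), ?_⟩
  have hord : z ^ ((2 * k + 1 : ℕ) : ℤ) = 1 := by rw [← hk, zpow_natCast, pow_orderOf_eq_one]
  have hu' : u = z ^ i * s := by rw [hi, mul_assoc, F.ss, mul_one]
  rw [mul_assoc, ← zpow_neg, F.conj_zpow', neg_neg, ← mul_assoc, ← zpow_add, hu']
  congr 1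
  rw [show i * ((k : ℤ) + 1) + i * ((k : ℤ) + 1) = ((2 * k + 1 : ℕ) : ℤ) * i + i by push_cast; ring,
    zpow_add, zpow_mul, hord, one_zpow, one_mul]

/-- The normaliser is the cyclic group times the centraliser of the involution in it. -/
theorem card_inter (hP : Nat.card ↥(P : Subgroup G) = p) :
    orderOf z * Nat.card ↥(Subgroup.centralizer ({s} : Set G) ⊓
        Subgroup.normalizer ((P : Subgroup G) : Set G) : Subgroup G) =
      Nat.card ↥(Subgroup.normalizer ((P : Subgroup G) : Set G)) := by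
  set N := Subgroup.normalizer ((P : Subgroup G) : Set G) with hN
  set K := Subgroup.centralizer ({s} : Set G) ⊓ N
  rw [← Nat.card_zpowers, ← Nat.card_prod]
  refine Nat.card_congr (Equiv.ofBijective (fun w : ↥(Subgroup.zpowers z) × ↥K =>
    (⟨(w.1 : G) * w.2, mul_mem ((Subgroup.zpowers_le.2 (by rw [hN]; simpa using F.zpow_mem_normalizer 1)) w.1.2)
      w.2.2.2⟩ : ↥N)) ⟨?_, ?_⟩)
  · rintro ⟨⟨a, ha⟩, ⟨b, hb⟩⟩ ⟨⟨a', ha'⟩, ⟨b', hb'⟩⟩ e
    have e' : a * b = a' * b' := congrArg Subtype.val e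
    obtain ⟨i, hi⟩ := Subgroup.mem_zpowers_iff.1 (mul_mem (inv_mem ha') ha)
    have h1 : a'⁻¹ * a = b' * b⁻¹ := by
      rw [eq_mul_inv_iff_mul_eq, mul_assoc, e', inv_mul_cancel_left]
    have h2 : b' * b⁻¹ ∈ K := mul_mem hb' (inv_mem hb)
    have h3 : z ^ i = 1 := F.eq_one (by
      rw [hi, h1]
      exact (Subgroup.mem_centralizer_singleton_iff.1 h2.1).symm)
    rw [hi, inv_mul_eq_one] at h3
    subst h3
    obtain rfl := mul_left_cancel e'
    rfl
  · rintro ⟨g, hg⟩
    obtain ⟨i, hi⟩ := F.exists_conj hP (u := g * s * g⁻¹)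
      (by rw [← MulAut.conj_apply, MulEquiv.orderOf_eq, F.invol]) (mul_mem (mul_mem hg F.norm) (inv_mem hg))
    refine ⟨(⟨z ^ i, zpow_mem (Subgroup.mem_zpowers z) i⟩, ⟨(z ^ i)⁻¹ * g,
      Subgroup.mem_centralizer_singleton_iff.2 ?_, N.mul_mem (N.inv_mem (F.zpow_mem_normalizer i)) hg⟩), ?_⟩
    · calc (z ^ i)⁻¹ * g * s = (z ^ i)⁻¹ * (g * s * g⁻¹) * g := by group
        _ = (z ^ i)⁻¹ * (z ^ i * s * (z ^ i)⁻¹) * g := by rw [hi]
        _ = s * ((z ^ i)⁻¹ * g) := by group
    · exact Subtype.ext (mul_inv_cancel_left (z ^ i) g)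

/-- In each orbit of the cyclic group the involution fixes at most one subgroup. -/
theorem fixed_le :
    (Nat.card {R : Sylow p G // s • R = R} - 1) * orderOf z ≤ Nat.card (Sylow p G) - 1 := by
  classical
  have := Fintype.ofFinite (Sylow p G)
  have hzP : ∀ i : ℤ, z ^ i • P = P := fun i =>
    Sylow.smul_eq_iff_mem_normalizer.2 (F.zpow_mem_normalizer i)
  have hsP : s • P = P := Sylow.smul_eq_iff_mem_normalizer.2 F.norm
  let A : Type _ := {R : {R : Sylow p G // s • R = R} // R ≠ ⟨P, hsP⟩}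
  let B : Type _ := {R : Sylow p G // R ≠ P}
  have hA : Nat.card A = Nat.card {R : Sylow p G // s • R = R} - 1 := by
    simp only [A, Nat.card_eq_fintype_card, Fintype.card_subtype_compl, Fintype.card_subtype_eq]
  have hB : Nat.card B = Nat.card (Sylow p G) - 1 := by
    simp only [B, Nat.card_eq_fintype_card, Fintype.card_subtype_compl, Fintype.card_subtype_eq]
  let f : A × ↥(Subgroup.zpowers z) → B := fun w => ⟨(w.2 : G) • w.1.1.1, fun e => w.1.2 (Subtype.ext (by
    obtain ⟨i, hi⟩ := Subgroup.mem_zpowers_iff.1 w.2.2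
    rw [← hi] at e
    exact smul_left_cancel _ (e.trans (hzP i).symm)))⟩
  have hf : Function.Injective f := by
    rintro ⟨⟨⟨R, hR⟩, hR'⟩, ⟨a, ha⟩⟩ ⟨⟨⟨S, hS⟩, hS'⟩, ⟨b, hb⟩⟩ e
    have e' : a • R = b • S := congrArg Subtype.val e
    have hSne : S ≠ P := fun h => hS' (Subtype.ext h)
    obtain ⟨i, hi⟩ := Subgroup.mem_zpowers_iff.1 (mul_mem (inv_mem ha) hb)
    have h1 : R = z ^ i • S := by rw [hi, mul_smul, ← e', inv_smul_smul]
    have h2 : z ^ (i + i) • S = S := by
      have h3 : s • z ^ i • S = z ^ i • S := by rw [← h1]; exact hR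
      rw [← mul_smul, F.conj_zpow', mul_smul, hS, zpow_neg, inv_smul_eq_iff, ← mul_smul, ← zpow_add] at h3
      exact h3.symm
    have h4 : z ^ i = 1 := F.eq_one (by
      rw [F.conj_zpow']
      congr 1
      calc z ^ (-i) = z ^ (-i) * z ^ (i + i) := by rw [F.free S hSne _ h2, mul_one]
        _ = z ^ i := by rw [← zpow_add]; ring_nf)
    rw [h4, one_smul] at h1
    subst h1
    rw [hi, inv_mul_eq_one] at h4
    subst h4
    rfl
  have h := Nat.card_le_card_of_injective f hf
  rwa [Nat.card_prod, hA, hB, Nat.card_zpowers] at h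

/-- The centraliser of the involution is transitive on the subgroups it normalises. -/
theorem card_centralizer (hP : Nat.card ↥(P : Subgroup G) = p) :
    Nat.card ↥(Subgroup.centralizer ({s} : Set G)) * orderOf z =
      Nat.card {R : Sylow p G // s • R = R} *
        Nat.card ↥(Subgroup.normalizer ((P : Subgroup G) : Set G)) := by
  set Ct := Subgroup.centralizer ({s} : Set G) with hCt
  have hsP : s • P = P := Sylow.smul_eq_iff_mem_normalizer.2 F.norm
  have horb : MulAction.orbit ↥Ct P = {R : Sylow p G | s • R = R} := by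
    ext R
    constructor
    · rintro ⟨c, rfl⟩
      show s • (c : G) • P = (c : G) • P
      rw [← mul_smul, ← Subgroup.mem_centralizer_singleton_iff.1 c.2, mul_smul, hsP]
    · intro hR
      obtain ⟨g, rfl⟩ := MulAction.exists_smul_eq G P R
      have hg : g⁻¹ * s * g ∈ Subgroup.normalizer ((P : Subgroup G) : Set G) := by
        refine Sylow.smul_eq_iff_mem_normalizer.1 ?_
        rw [mul_smul, mul_smul, show s • g • P = g • P from hR, inv_smul_smul]
      obtain ⟨i, hi⟩ := F.exists_conj hP (u := g⁻¹ * s * g)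
        (by
          have : g⁻¹ * s * g = MulAut.conj g⁻¹ s := by rw [MulAut.conj_apply, inv_inv]
          rw [this, MulEquiv.orderOf_eq, F.invol]) hg
      refine ⟨⟨g * z ^ i, Subgroup.mem_centralizer_singleton_iff.2 ?_⟩, ?_⟩
      · calc g * z ^ i * s = g * (z ^ i * s * (z ^ i)⁻¹) * z ^ i := by group
          _ = g * (g⁻¹ * s * g) * z ^ i := by rw [hi]
          _ = s * (g * z ^ i) := by group
      · show (g * z ^ i) • P = g • P
        rw [mul_smul, Sylow.smul_eq_iff_mem_normalizer.2 (F.zpow_mem_normalizer i)]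
  have hst : Nat.card ↥(MulAction.stabilizer ↥Ct P) =
      Nat.card ↥(Ct ⊓ Subgroup.normalizer ((P : Subgroup G) : Set G) : Subgroup G) := by
    refine Nat.card_congr
      { toFun := fun c => ⟨c.1.1, c.1.2, Sylow.smul_eq_iff_mem_normalizer.1 c.2⟩
        invFun := fun c => ⟨⟨c.1, c.2.1⟩, Sylow.smul_eq_iff_mem_normalizer.2 c.2.2⟩
        left_inv := fun _ => rfl
        right_inv := fun _ => rfl }
  have h1 := Subgroup.card_mul_index (MulAction.stabilizer ↥Ct P)
  rw [MulAction.index_stabilizer, horb, hst, ← Nat.card_coe_set_eq] at h1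
  rw [← h1, ← F.card_inter hP]
  simp only [Set.coe_ofPred]
  ring

end Frame

/-- An involution of a simple group moves an even number of pairs. -/
theorem four_dvd_moved [IsSimpleGroup G] (hnc : ¬ ∀ a b : G, a * b = b * a) (α : Type*) [MulAction G α]
    [Finite α] {s : G} (hs : s * s = 1) :
    4 ∣ Nat.card α - Nat.card {a : α // s • a = a} := by
  classical
  have := Fintype.ofFinite α
  set σ := MulAction.toPermHom G α s with hσ
  have h2 : σ ^ 2 = 1 := by rw [hσ, ← map_pow, sq, hs, map_one]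
  have hsup : σ.support.card = Nat.card α - Nat.card {a : α // s • a = a} := by
    rw [Nat.card_eq_fintype_card, Nat.card_eq_fintype_card, Fintype.card_subtype, ← Finset.card_compl]
    congr 1
    ext a
    simp [hσ, Equiv.Perm.mem_support]
  rw [← hsup]
  have hsign := sign_toPerm hnc α s
  rw [← hσ, Equiv.Perm.sign_of_cycleType] at hsign
  have hall : ∀ n ∈ σ.cycleType, n = 2 := fun n hn =>
    le_antisymm (Nat.le_of_dvd two_pos ((Equiv.Perm.dvd_of_mem_cycleType hn).trans
      (orderOf_dvd_of_pow_eq_one h2))) (Equiv.Perm.two_le_of_mem_cycleType hn)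
  have hrep := Multiset.eq_replicate_of_mem hall
  rw [← Equiv.Perm.sum_cycleType σ]
  rw [hrep, Multiset.sum_replicate, Multiset.card_replicate, smul_eq_mul,
    neg_one_pow_eq_one_iff_even (by decide)] at hsign
  rw [hrep, Multiset.sum_replicate, smul_eq_mul]
  obtain ⟨k, hk⟩ := hsign
  omega

end Cfsg.Lib.Small.Order175560
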