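import Cfsg.Agent.Small.Order175560.Frame
import Cfsg.Agent.Blocks.DegreeEquation.Check
import Cfsg.Agent.Classical.Misc.SixtyGroup

/-!
# Local subgroups of a simple group of order 175560
-/

set_option autoImplicit false

namespace Cfsg.Lib.Small.Order175560

open Cfsg.Lib.Blocks.DegreeEquation
open scoped Pointwise

universe u

instance : Fact (Nat.Prime 19) := ⟨by norm_num⟩

/-- In a group of order `12q` or `24q` a Sylow normaliser centralising the Sylow subgroup has order
divisible by three. -/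
theorem three_dvd_normalizer {H : Type*} [Group H] [Finite H] {q : ℕ} [Fact q.Prime] (hq : 5 ≤ q) {m : ℕ}
    (hm : m = 12 ∨ m = 24) (hH : Nat.card H = q * m) (Q : Sylow q H)
    (hle : Subgroup.normalizer ((Q : Subgroup H) : Set H) ≤ Subgroup.centralizer ((Q : Subgroup H) : Set H)) :
    3 ∣ Nat.card ↥(Subgroup.normalizer ((Q : Subgroup H) : Set H)) := by
  classical
  have hqp := (Fact.out : q.Prime)
  have : Fact (Nat.Prime 3) := ⟨by norm_num⟩
  have hqm : ¬ q ∣ m := fun h => by
    rcases hm with rfl | rfl <;> have := Nat.le_of_dvd (by norm_num) h <;>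
      interval_cases q <;> norm_num at *
  have hQ : Nat.card ↥(Q : Subgroup H) = q :=
    (card_sylow_of_factor Q (a := 1) (m := m) (by rw [pow_one]; exact hH) hqm).trans (pow_one _)
  set K := (MonoidHom.transferSylow Q hle).ker with hKdef
  have hcompl := MonoidHom.ker_transferSylow_isComplement' Q hle
  rw [← hKdef] at hcompl
  have hK : Nat.card ↥K = m := by
    have h := hcompl.card_mul
    rw [hQ, hH, mul_comm] at h
    exact Nat.eq_of_mul_eq_mul_left hqp.pos h
  have : K.Normal := MonoidHom.normal_ker _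
  have hidx : K.index = q := by
    have h := K.card_mul_index
    rw [hK, hH, mul_comm q m] at h
    exact Nat.eq_of_mul_eq_mul_left (by omega) h
  have h3H : Nat.card H = 3 ^ 1 * (q * (m / 3)) := by
    rw [hH]; rcases hm with rfl | rfl <;> ring
  have hq3 : ¬ 3 ∣ q * (m / 3) := fun h => by
    rcases (Nat.Prime.dvd_mul (by norm_num)).1 h with h | h
    · exact absurd ((Nat.prime_dvd_prime_iff_eq (by norm_num) hqp).1 h) (by omega)
    · rcases hm with rfl | rfl <;> norm_num at h
  have hR3 : ∀ R : Sylow 3 H, Nat.card ↥(R : Subgroup H) = 3 := fun R =>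
    (card_sylow_of_factor R h3H hq3).trans (pow_one _)
  have hRK : ∀ R : Sylow 3 H, (R : Subgroup H) ≤ K := by
    intro R w hw
    refine Cfsg.Lib.Classical.SixtyGroup.mem_of_prime_pow K (p := 3) (by norm_num) ?_ ?_
    · rw [hidx]
      exact fun h => hq3 (dvd_mul_of_dvd_left h _)
    · have h1 := pow_card_eq_one' (x := (⟨w, hw⟩ : ↥(R : Subgroup H)))
      rw [hR3 R] at h1
      exact congrArg Subtype.val h1
  have hn3 : Nat.card (Sylow 3 H) ≤ 4 := by
    refine le_trans (Nat.card_le_card_of_injective (fun R : Sylow 3 H => R.subtype (hRK R))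
      fun R R' e => Sylow.subtype_injective e) ?_
    obtain ⟨R⟩ : Nonempty (Sylow 3 ↥K) := inferInstance
    obtain ⟨h1, h2⟩ := sylow_facts R (a := 1) (m := m / 3) (by rw [hK]; rcases hm with rfl | rfl <;> rfl)
      (by rcases hm with rfl | rfl <;> norm_num)
    rcases hm with rfl | rfl <;>
    · have := Nat.le_of_dvd (by norm_num) h1
      generalize Nat.card (Sylow 3 ↥K) = n at *
      interval_cases n <;> norm_num at *
  obtain ⟨R⟩ : Nonempty (Sylow 3 H) := inferInstance
  have hmul := card_normalizer_mul R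
  have hdvd : q ∣ Nat.card ↥(Subgroup.normalizer ((R : Subgroup H) : Set H)) := by
    refine (hqp.dvd_mul.1 (show q ∣ _ * Nat.card (Sylow 3 H) by rw [hmul, hH]; exact dvd_mul_right q m)).resolve_right
      fun h => ?_
    have := Nat.le_of_dvd Nat.card_pos h
    omega
  obtain ⟨y, hy⟩ := exists_prime_orderOf_dvd_card' q hdvd
  have hy' : orderOf (y : H) = q := by rw [Subgroup.orderOf_coe, hy]
  have hyc := mem_centralizer_of_coprime (p := 3) (hR3 R) y.2 (by
    rw [hy']
    exact (Nat.coprime_primes hqp Nat.prime_two).2 (by omega))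
  have hyq : Nat.card ↥(Subgroup.zpowers (y : H)) = q ^ (Nat.card H).factorization q := by
    rw [← Sylow.card_eq_multiplicity Q, hQ, Nat.card_zpowers, hy']
  have hle2 : (R : Subgroup H) ≤
      Subgroup.normalizer ((Sylow.ofCard _ hyq : Subgroup H) : Set H) := by
    refine le_trans ?_ (Subgroup.centralizer_le_normalizer _)
    intro w hw
    rw [Sylow.coe_ofCard, Subgroup.mem_centralizer_iff]
    rintro _ ⟨i, rfl⟩
    exact (Commute.zpow_left (show Commute (y : H) w from
      (Subgroup.mem_centralizer_iff.1 hyc w hw).symm) i).eq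
  have h := Subgroup.card_dvd_of_le hle2
  rw [hR3 R] at h
  have e1 := card_normalizer_mul (Sylow.ofCard _ hyq)
  have e2 := card_normalizer_mul Q
  rwa [Nat.eq_of_mul_eq_mul_right Nat.card_pos (e1.trans e2.symm)] at h

/-- The numbers of Sylow subgroups that a normalised subgroup of order `h` allows. -/
def localKill (q h : ℕ) : Bool :=
  (List.range (175560 / h / 19 + 1)).all fun j =>
    let n := 19 * j
    !(decide (n % q = 1) && decide (175560 % (n * h) = 0)) || checkN q (175560 / q) 420 n

theorem localKill_table :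
    (localKill 5 40 && localKill 5 120 && localKill 7 56 && localKill 7 168 && localKill 11 264) = true := by
  decide +kernel

variable {G : Type u} [Group G] [Finite G] [IsSimpleGroup G]
variable (hnc : ¬ ∀ a b : G, a * b = b * a) (hG : Nat.card G = 175560)
include hnc hG

omit hnc in
theorem card_nineteen (P : Sylow 19 G) : Nat.card ↥(P : Subgroup G) = 19 :=
  (card_sylow_of_factor P (a := 1) (m := 9240) (by rw [hG]; norm_num) (by norm_num)).trans (pow_one _)

/-- A subgroup with a unique Sylow `q`-subgroup. -/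
theorem false_of_unique {q : ℕ} [Fact q.Prime] (hq : q = 5 ∨ q = 7 ∨ q = 11)
    (hN19 : ∀ P : Sylow 19 G, Nat.card ↥(Subgroup.normalizer ((P : Subgroup G) : Set G)) = 114)
    (H : Subgroup G) (hqH : q ∣ Nat.card ↥H) (huniq : Nat.card (Sylow q ↥H) = 1)
    (hk : localKill q (Nat.card ↥H) = true) : False := by
  classical
  have : Fact (Nat.Prime 19) := ⟨by norm_num⟩
  have hcyc : ¬ IsCyclic G := fun hc => by
    let _ : CommGroup G := IsCyclic.commGroup
    exact hnc mul_comm
  have hqM : Nat.card G = q ^ 1 * (175560 / q) ∧ ¬ q ∣ 175560 / q := by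
    rw [hG]; rcases hq with rfl | rfl | rfl <;> norm_num
  obtain ⟨Q0⟩ : Nonempty (Sylow q ↥H) := inferInstance
  set Q := ((Q0 : Subgroup ↥H)).map H.subtype with hQdef
  have hQc : Nat.card ↥Q = q := by
    obtain ⟨k, hk'⟩ := hqH
    rw [hQdef, Subgroup.card_map_of_injective H.subtype_injective]
    refine (card_sylow_of_factor Q0 (a := 1) (m := k) (by rw [pow_one]; exact hk') fun hd => hqM.2 ?_).trans
      (pow_one _)
    have h1 := Subgroup.card_subgroup_dvd_card H
    rw [hk', hqM.1, pow_one] at h1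
    exact hd.trans (Nat.dvd_of_mul_dvd_mul_left (Fact.out : q.Prime).pos h1)
  have hfac : (Nat.card G).factorization q = 1 := by
    obtain ⟨S⟩ : Nonempty (Sylow q G) := inferInstance
    have h1 := card_sylow_of_factor S hqM.1 hqM.2
    rw [Sylow.card_eq_multiplicity, pow_one] at h1
    exact Nat.pow_right_injective (Fact.out : q.Prime).two_le (h1.trans (pow_one q).symm)
  set QG := Sylow.ofCard Q (by rw [hQc, hfac, pow_one]) with hQG
  have hHN : H ≤ Subgroup.normalizer ((QG : Subgroup G) : Set G) := by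
    have : Subsingleton (Sylow q ↥H) := (Nat.card_eq_one_iff_unique.1 huniq).1
    have hn := Q0.normal_of_subsingleton
    intro g hg
    rw [hQG, Sylow.coe_ofCard, hQdef, Subgroup.mem_normalizer_iff]
    intro w
    constructor
    · rintro ⟨w', hw', rfl⟩
      exact ⟨⟨g, hg⟩ * w' * ⟨g, hg⟩⁻¹, hn.conj_mem w' hw' _, rfl⟩
    · rintro ⟨w', hw', he⟩
      refine ⟨⟨g, hg⟩⁻¹ * w' * ⟨g, hg⟩, ?_, ?_⟩
      · have := hn.conj_mem w' hw' (⟨g, hg⟩⁻¹ : ↥H)
        rwa [inv_inv] at this
      · show g⁻¹ * (w' : G) * g = w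
        rw [show (w' : G) = g * w * g⁻¹ from he]
        group
  set n := Nat.card (Sylow q G) with hn
  have hmul := card_normalizer_mul QG
  rw [hG] at hmul
  have hHn : n * Nat.card ↥H ∣ 175560 := by
    rw [← hmul, mul_comm _ n]
    exact mul_dvd_mul_left n (Subgroup.card_dvd_of_le hHN)
  obtain ⟨hnM, hnq⟩ := sylow_facts QG hqM.1 hqM.2
  have h19 : 19 ∣ n := by
    by_contra h
    have h1 : 19 ∣ Nat.card ↥(Subgroup.normalizer ((QG : Subgroup G) : Set G)) :=
      ((Fact.out : Nat.Prime 19).dvd_mul.1 (hmul ▸ (by norm_num : 19 ∣ 175560))).resolve_right h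
    obtain ⟨y, hy⟩ := exists_prime_orderOf_dvd_card' 19 h1
    have hy' : orderOf (y : G) = 19 := by rw [Subgroup.orderOf_coe, hy]
    have hyc := mem_centralizer_of_coprime (p := q) (by rw [hQG, Sylow.coe_ofCard]; exact hQc) y.2 (by
      rw [hy']; rcases hq with rfl | rfl | rfl <;> norm_num)
    obtain ⟨P⟩ : Nonempty (Sylow 19 G) := inferInstance
    have hyp : Nat.card ↥(Subgroup.zpowers (y : G)) = 19 ^ (Nat.card G).factorization 19 := by
      rw [← Sylow.card_eq_multiplicity P, card_nineteen hG P, Nat.card_zpowers, hy']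
    have hle : (QG : Subgroup G) ≤
        Subgroup.normalizer ((Sylow.ofCard _ hyp : Subgroup G) : Set G) := by
      refine le_trans ?_ (Subgroup.centralizer_le_normalizer _)
      intro w hw
      rw [Sylow.coe_ofCard, Subgroup.mem_centralizer_iff]
      rintro _ ⟨i, rfl⟩
      exact (Commute.zpow_left (show Commute (y : G) w from
        (Subgroup.mem_centralizer_iff.1 hyc w hw).symm) i).eq
    have h2 := Subgroup.card_dvd_of_le hle
    rw [hN19, hQG, Sylow.coe_ofCard, hQc] at h2
    rcases hq with rfl | rfl | rfl <;> norm_num at h2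
  obtain ⟨j, hj⟩ := h19
  have hHpos : 0 < Nat.card ↥H := Nat.card_pos
  have hjle : j < 175560 / Nat.card ↥H / 19 + 1 := by
    rw [Nat.div_div_eq_div_mul, Nat.lt_succ_iff, Nat.le_div_iff_mul_le (by positivity)]
    refine le_of_eq_of_le ?_ (Nat.le_of_dvd (by norm_num) hHn)
    rw [hj]; ring
  rw [localKill, List.all_eq_true] at hk
  have h1 := hk j (List.mem_range.2 hjle)
  simp only [← hj] at h1
  rw [decide_eq_true (show n % q = 1 from hnq), decide_eq_true (Nat.mod_eq_zero_of_dvd hHn)] at h1
  simp only [Bool.and_self, Bool.not_true, Bool.false_or] at h1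
  have h2 := checkN_card_sylow hcyc q (175560 / q) 420 (by rw [hqM.1, pow_one]) hqM.2
    (by rcases hq with rfl | rfl | rfl <;> norm_num)
  rw [← hn] at h2
  rw [h2] at h1
  exact Bool.noConfusion h1

/-- The forbidden orders of involution centralisers. -/
theorem card_centralizer_ne (hN19 : ∀ P : Sylow 19 G,
      Nat.card ↥(Subgroup.normalizer ((P : Subgroup G) : Set G)) = 114) {s : G} (hs : orderOf s = 2) :
    ∀ c ∈ [40, 56, 168, 264], Nat.card ↥(Subgroup.centralizer ({s} : Set G)) ≠ c := by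
  intro c hc hcard
  set C := Subgroup.centralizer ({s} : Set G) with hC
  have htab := localKill_table
  simp only [Bool.and_eq_true] at htab
  have hsC : s ∈ C := Subgroup.mem_centralizer_singleton_iff.2 rfl
  -- the involution lies in every local subgroup
  have heven : ∀ {q : ℕ} [Fact q.Prime] (Q : Sylow q ↥C),
      2 ∣ Nat.card ↥(Subgroup.normalizer ((Q : Subgroup ↥C) : Set ↥C)) := by
    intro q _ Q
    have h1 : (⟨s, hsC⟩ : ↥C) ∈ Subgroup.normalizer ((Q : Subgroup ↥C) : Set ↥C) :=
      Subgroup.centralizer_le_normalizer _ (Subgroup.mem_centralizer_iff.2 fun w _ => Subtype.ext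
        (Subgroup.mem_centralizer_singleton_iff.1 w.2))
    have h2 := Subgroup.card_dvd_of_le (Subgroup.zpowers_le.2 h1)
    rwa [Nat.card_zpowers, Subgroup.orderOf_mk, hs] at h2
  simp only [List.mem_cons, List.not_mem_nil, or_false] at hc
  rcases hc with rfl | rfl | rfl | rfl
  · have : Fact (Nat.Prime 5) := ⟨by norm_num⟩
    obtain ⟨Q⟩ : Nonempty (Sylow 5 ↥C) := inferInstance
    obtain ⟨h1, h2⟩ := sylow_facts Q (a := 1) (m := 8) (by rw [hcard]; norm_num) (by norm_num)
    refine false_of_unique hnc hG (q := 5) (Or.inl rfl) hN19 C (by rw [hcard]; norm_num) ?_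
      (by rw [hcard]; exact htab.1.1.1.1)
    exact (by decide : ∀ n ≤ 8, n ∣ 8 → n % 5 = 1 → n = 1) _ (Nat.le_of_dvd (by norm_num) h1) h1 h2
  · have : Fact (Nat.Prime 7) := ⟨by norm_num⟩
    obtain ⟨Q⟩ : Nonempty (Sylow 7 ↥C) := inferInstance
    refine false_of_unique hnc hG (q := 7) (Or.inr (Or.inl rfl)) hN19 C (by rw [hcard]; norm_num) ?_
      (by rw [hcard]; exact htab.1.1.2)
    have h1 := card_normalizer_mul Q
    obtain ⟨k, hk⟩ := heven Q
    obtain ⟨h4, h2⟩ := sylow_facts Q (a := 1) (m := 8) (by rw [hcard]; norm_num) (by norm_num)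
    rw [hk, hcard] at h1
    have h3 : Nat.card (Sylow 7 ↥C) ∣ 28 := ⟨k, by linarith⟩
    exact (by decide : ∀ n ≤ 8, n ∣ 8 → n ∣ 28 → n % 7 = 1 → n = 1) _
      (Nat.le_of_dvd (by norm_num) h4) h4 h3 h2
  · have : Fact (Nat.Prime 7) := ⟨by norm_num⟩
    obtain ⟨Q⟩ : Nonempty (Sylow 7 ↥C) := inferInstance
    refine false_of_unique hnc hG (q := 7) (Or.inr (Or.inl rfl)) hN19 C (by rw [hcard]; norm_num) ?_
      (by rw [hcard]; exact htab.1.2)
    have h1 := card_normalizer_mul Q
    obtain ⟨k, hk⟩ := heven Q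
    obtain ⟨-, h2⟩ := sylow_facts Q (a := 1) (m := 24) (by rw [hcard]; norm_num) (by norm_num)
    rw [hk, hcard] at h1
    have h3 : Nat.card (Sylow 7 ↥C) ∣ 84 := ⟨k, by linarith⟩
    obtain ⟨h4, -⟩ := sylow_facts Q (a := 1) (m := 24) (by rw [hcard]; norm_num) (by norm_num)
    exact (by decide : ∀ n ≤ 24, n ∣ 24 → n ∣ 84 → n % 7 = 1 → n = 1) _
      (Nat.le_of_dvd (by norm_num) h4) h4 h3 h2
  · have : Fact (Nat.Prime 11) := ⟨by norm_num⟩
    obtain ⟨Q⟩ : Nonempty (Sylow 11 ↥C) := inferInstance
    refine false_of_unique hnc hG (q := 11) (Or.inr (Or.inr rfl)) hN19 C (by rw [hcard]; norm_num) ?_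
      (by rw [hcard]; exact htab.2)
    obtain ⟨h1, h2⟩ := sylow_facts Q (a := 1) (m := 24) (by rw [hcard]; norm_num) (by norm_num)
    by_contra hne
    have h12 : Nat.card (Sylow 11 ↥C) = 12 := by
      exact ((by decide : ∀ n ≤ 24, n ∣ 24 → n % 11 = 1 → n = 1 ∨ n = 12) _
        (Nat.le_of_dvd (by norm_num) h1) h1 h2).resolve_left hne
    have h3 := card_normalizer_mul Q
    rw [h12, hcard] at h3
    have hN : Nat.card ↥(Subgroup.normalizer ((Q : Subgroup ↥C) : Set ↥C)) = 22 := by omega
    have hQc := card_sylow_of_factor Q (a := 1) (m := 24) (by rw [hcard]; norm_num) (by norm_num)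
    rw [pow_one] at hQc
    -- the normaliser is the Sylow subgroup times the involution
    have hle : Subgroup.normalizer ((Q : Subgroup ↥C) : Set ↥C) ≤
        Subgroup.centralizer ((Q : Subgroup ↥C) : Set ↥C) := by
      have hz : (⟨s, hsC⟩ : ↥C) ∈ Subgroup.centralizer ((Q : Subgroup ↥C) : Set ↥C) :=
        Subgroup.mem_centralizer_iff.2 fun w _ => Subtype.ext (Subgroup.mem_centralizer_singleton_iff.1 w.2)
      have : IsCyclic ↥(Q : Subgroup ↥C) := isCyclic_of_prime_card hQc
      have hQC : (Q : Subgroup ↥C) ≤ Subgroup.centralizer ((Q : Subgroup ↥C) : Set ↥C) := fun a ha =>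
        Subgroup.mem_centralizer_iff.2 fun b hb => congrArg Subtype.val
          ((IsCyclic.commGroup (α := ↥(Q : Subgroup ↥C))).mul_comm ⟨b, hb⟩ ⟨a, ha⟩)
      have hd : 22 ∣ Nat.card ↥(Subgroup.centralizer ((Q : Subgroup ↥C) : Set ↥C)) := by
        refine Nat.Coprime.mul_dvd_of_dvd_of_dvd (by norm_num : Nat.Coprime 11 2) ?_ ?_
        · have h := Subgroup.card_dvd_of_le hQC
          rwa [hQc] at h
        · have h := Subgroup.card_dvd_of_le (Subgroup.zpowers_le.2 hz)
          rwa [Nat.card_zpowers, Subgroup.orderOf_mk, hs] at h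
      exact (Subgroup.eq_of_le_of_card_ge (Subgroup.centralizer_le_normalizer _)
        (by rw [hN]; exact Nat.le_of_dvd Nat.card_pos hd)).ge
    have h4 := three_dvd_normalizer (q := 11) (by norm_num) (m := 24) (Or.inr rfl) (by rw [hcard]) Q hle
    rw [hN] at h4
    norm_num at h4

end Cfsg.Lib.Small.Order175560
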